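import Groth.Agent.LambdaRing.K536.UnivComp

/-!
# Adams operations of a strict lambda-ring; stability of the universal polynomials
-/

set_option autoImplicit false
universe u v

open Finset LambdaRing

namespace K536.AdamsSpecial

open K536.Basic K536.PowerSum K536.SymmInj K536.UnivPoly K536.UnivComp K536.Newton
  Groth.Agent.Books.Lambda1

section aux

variable {R : Type u} {S : Type v} [CommRing R] [CommRing S] [Algebra ℤ R] [Algebra ℤ S]

lemma map_aeval_int {σ : Type*} (φ : R →+* S) (v : σ → R) (P : MvPolynomial σ ℤ) :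
    φ (MvPolynomial.aeval v P) = MvPolynomial.aeval (fun k => φ (v k)) P := by
  induction P using MvPolynomial.induction_on with
  | C a => simp
  | add p q hp hq => rw [map_add, map_add, map_add, hp, hq]
  | mul_X p i hp => rw [map_mul, map_mul, map_mul, hp, MvPolynomial.aeval_X, MvPolynomial.aeval_X]

lemma aeval_irrel {R : Type*} [CommRing R] {σ : Type*} (i1 i2 : Algebra ℤ R) (v : σ → R)
    (P : MvPolynomial σ ℤ) :
    (letI := i1; MvPolynomial.aeval v P) = (letI := i2; MvPolynomial.aeval v P) := by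
  have h : i1 = i2 := Subsingleton.elim _ _
  subst h
  rfl

end aux

section stable

/-- the rational case of the stability of `P_n` -/
lemma stable_mul_rat {K : Type u} [CommRing K] [Algebra ℚ K] {ι κ : Type*} [Fintype ι] [Fintype κ]
    (T : ι → K) (U : κ → K) {n : ℕ} {P : MvPolynomial (Fin n ⊕ Fin n) ℤ} (hP : IsMulPoly n P) :
    MvPolynomial.aeval (Sum.elim (fun k : Fin n => es T ((k : ℕ) + 1))
      (fun k : Fin n => es U ((k : ℕ) + 1))) P = es (fun ab : ι × κ => T ab.1 * U ab.2) n := by
  have h := mul_core (constantCoeff_prod_linear univ T) (constantCoeff_prod_linear univ U)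
    (constantCoeff_prod_linear univ (fun ab : ι × κ => T ab.1 * U ab.2)) n (fun k _ => by
      rw [ps_prod_linear, ps_prod_linear, ps_prod_linear, Finset.sum_mul_sum,
        ← Finset.univ_product_univ, Finset.sum_product]
      apply Finset.sum_congr rfl
      intro a _
      apply Finset.sum_congr rfl
      intro b _
      rw [mul_pow]) hP
  simp only [coeff_prod_linear] at h
  exact h.symm

/-- stability of `P_n`: the identity holds for two families of any size in any ring -/
theorem stable_mul {R : Type u} [CommRing R] {ι κ : Type*} [Fintype ι] [Fintype κ]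
    (T : ι → R) (U : κ → R) {n : ℕ} {P : MvPolynomial (Fin n ⊕ Fin n) ℤ} (hP : IsMulPoly n P) :
    MvPolynomial.aeval (Sum.elim (fun k : Fin n => es T ((k : ℕ) + 1))
      (fun k : Fin n => es U ((k : ℕ) + 1))) P = es (fun ab : ι × κ => T ab.1 * U ab.2) n := by
  have h1 : MvPolynomial.aeval (Sum.elim
      (fun k : Fin n => es (fun a : ι => (MvPolynomial.X (Sum.inl a) :
        MvPolynomial (ι ⊕ κ) ℤ)) ((k : ℕ) + 1))
      (fun k : Fin n => es (fun a : κ => (MvPolynomial.X (Sum.inr a) :
        MvPolynomial (ι ⊕ κ) ℤ)) ((k : ℕ) + 1))) P =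
      es (fun ab : ι × κ => (MvPolynomial.X (Sum.inl ab.1) * MvPolynomial.X (Sum.inr ab.2) :
        MvPolynomial (ι ⊕ κ) ℤ)) n := by
    apply MvPolynomial.map_injective (Int.castRingHom ℚ) Int.cast_injective
    rw [map_aeval_int, map_es]
    have h2 := stable_mul_rat (fun a : ι => (MvPolynomial.X (Sum.inl a) :
        MvPolynomial (ι ⊕ κ) ℚ)) (fun a : κ => (MvPolynomial.X (Sum.inr a) :
        MvPolynomial (ι ⊕ κ) ℚ)) hP
    have e1 : (fun k => MvPolynomial.map (Int.castRingHom ℚ) (Sum.elim
        (fun k : Fin n => es (fun a : ι => (MvPolynomial.X (Sum.inl a) :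
        MvPolynomial (ι ⊕ κ) ℤ)) ((k : ℕ) + 1))
      (fun k : Fin n => es (fun a : κ => (MvPolynomial.X (Sum.inr a) :
        MvPolynomial (ι ⊕ κ) ℤ)) ((k : ℕ) + 1)) k)) = (Sum.elim
      (fun k : Fin n => es (fun a : ι => (MvPolynomial.X (Sum.inl a) :
        MvPolynomial (ι ⊕ κ) ℚ)) ((k : ℕ) + 1))
      (fun k : Fin n => es (fun a : κ => (MvPolynomial.X (Sum.inr a) :
        MvPolynomial (ι ⊕ κ) ℚ)) ((k : ℕ) + 1))) := by
      funext k
      rcases k with k | k
      · rw [Sum.elim_inl, Sum.elim_inl, map_es]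
        simp
      · rw [Sum.elim_inr, Sum.elim_inr, map_es]
        simp
    rw [e1]
    refine (aeval_irrel _ _ _ _).trans (h2.trans ?_)
    congr 1
    funext ab
    simp
  have h3 := congrArg (MvPolynomial.aeval (Sum.elim T U) : MvPolynomial (ι ⊕ κ) ℤ →ₐ[ℤ] R).toRingHom
    h1
  rw [map_aeval_int, map_es] at h3
  have e2 : (fun k => (MvPolynomial.aeval (Sum.elim T U) :
      MvPolynomial (ι ⊕ κ) ℤ →ₐ[ℤ] R).toRingHom (Sum.elim
        (fun k : Fin n => es (fun a : ι => (MvPolynomial.X (Sum.inl a) :
        MvPolynomial (ι ⊕ κ) ℤ)) ((k : ℕ) + 1))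
      (fun k : Fin n => es (fun a : κ => (MvPolynomial.X (Sum.inr a) :
        MvPolynomial (ι ⊕ κ) ℤ)) ((k : ℕ) + 1)) k)) = (Sum.elim (fun k : Fin n => es T ((k : ℕ) + 1))
      (fun k : Fin n => es U ((k : ℕ) + 1))) := by
    funext k
    rcases k with k | k
    · rw [Sum.elim_inl, Sum.elim_inl, map_es]
      simp
    · rw [Sum.elim_inr, Sum.elim_inr, map_es]
      simp
  rw [e2] at h3
  rw [h3]
  congr 1
  funext ab
  simp

/-- the rational case of the stability of `Q_{i,j}` -/
lemma stable_comp_rat {K : Type u} [CommRing K] [Algebra ℚ K] {ι : Type*} [Fintype ι]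
    [DecidableEq ι] (T : ι → K) {i j : ℕ} {Q : MvPolynomial (Fin (i * j)) ℤ}
    (hQ : IsCompPoly i j Q) :
    MvPolynomial.aeval (fun k : Fin (i * j) => es T ((k : ℕ) + 1)) Q = es (subFam T i) j := by
  have h := comp_core (f := ∏ a, (1 + PowerSeries.C (T a) * PowerSeries.X))
    (h := ∏ s, (1 + PowerSeries.C (subFam T i s) * PowerSeries.X))
    (g := fun k => ∏ a, (1 + PowerSeries.C (T a ^ (k + 1)) * PowerSeries.X))
    (constantCoeff_prod_linear univ T) (constantCoeff_prod_linear univ (subFam T i))
    (fun k => constantCoeff_prod_linear univ _) i j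
    (fun k _ l _ => by
      rw [ps_prod_linear, ps_prod_linear]
      apply Finset.sum_congr rfl
      intro a _
      have h : (k + 1) * (l + 1) - 1 + 1 = (k + 1) * (l + 1) := by
        have : 0 < (k + 1) * (l + 1) := by positivity
        omega
      rw [h, pow_mul])
    (fun k _ => by
      rw [ps_prod_linear, coeff_prod_linear, es_pow]) hQ
  simp only [coeff_prod_linear] at h
  exact h.symm

/-- stability of `Q_{i,j}`: the identity holds for a family of any size in any ring -/
theorem stable_comp {R : Type u} [CommRing R] {ι : Type*} [Fintype ι]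
    [DecidableEq ι] (T : ι → R) {i j : ℕ} {Q : MvPolynomial (Fin (i * j)) ℤ}
    (hQ : IsCompPoly i j Q) :
    MvPolynomial.aeval (fun k : Fin (i * j) => es T ((k : ℕ) + 1)) Q = es (subFam T i) j := by
  have h1 : MvPolynomial.aeval (fun k : Fin (i * j) => es (fun a : ι => (MvPolynomial.X a :
        MvPolynomial ι ℤ)) ((k : ℕ) + 1)) Q =
      es (subFam (fun a : ι => (MvPolynomial.X a : MvPolynomial ι ℤ)) i) j := by
    apply MvPolynomial.map_injective (Int.castRingHom ℚ) Int.cast_injective
    rw [map_aeval_int, map_es]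
    have h2 := stable_comp_rat (fun a : ι => (MvPolynomial.X a : MvPolynomial ι ℚ)) hQ
    have e1 : (fun k : Fin (i * j) => MvPolynomial.map (Int.castRingHom ℚ)
        (es (fun a : ι => (MvPolynomial.X a : MvPolynomial ι ℤ)) ((k : ℕ) + 1))) =
        (fun k : Fin (i * j) => es (fun a : ι => (MvPolynomial.X a :
        MvPolynomial ι ℚ)) ((k : ℕ) + 1)) := by
      funext k
      rw [map_es]
      simp
    rw [e1]
    refine (aeval_irrel _ _ _ _).trans (h2.trans ?_)
    congr 1
    funext s
    rw [subFam, subFam, map_prod]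
    simp
  have h3 := congrArg (MvPolynomial.aeval T : MvPolynomial ι ℤ →ₐ[ℤ] R).toRingHom h1
  rw [map_aeval_int, map_es] at h3
  have e2 : (fun k : Fin (i * j) => (MvPolynomial.aeval T :
      MvPolynomial ι ℤ →ₐ[ℤ] R).toRingHom
        (es (fun a : ι => (MvPolynomial.X a : MvPolynomial ι ℤ)) ((k : ℕ) + 1))) =
      (fun k : Fin (i * j) => es T ((k : ℕ) + 1)) := by
    funext k
    rw [map_es]
    simp
  rw [e2] at h3
  rw [h3]
  congr 1
  funext s
  rw [subFam, subFam, map_prod]
  simp

end stable

section mul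

variable (P : ∀ n : ℕ, MvPolynomial (Fin n ⊕ Fin n) ℤ) (hP : ∀ n, IsMulPoly n (P n))

/-- the coefficients prescribed by the universal polynomials -/
noncomputable def mulCoeff {R : Type u} [CommRing R] (f g : PowerSeries R) (m : ℕ) : R :=
  MvPolynomial.aeval (Sum.elim (fun k : Fin m => PowerSeries.coeff ((k : ℕ) + 1) f)
        (fun k : Fin m => PowerSeries.coeff ((k : ℕ) + 1) g)) (P m)

lemma map_mulCoeff {R : Type u} {S : Type v} [CommRing R] [CommRing S] (φ : R →+* S)
    (f g : PowerSeries R) (m : ℕ) :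
    φ (mulCoeff P f g m) = mulCoeff P (PowerSeries.map φ f) (PowerSeries.map φ g) m := by
  rw [mulCoeff, map_aeval_int, mulCoeff]
  congr 2
  funext k
  rcases k with k | k
  · rw [Sum.elim_inl, Sum.elim_inl, PowerSeries.coeff_map]
  · rw [Sum.elim_inr, Sum.elim_inr, PowerSeries.coeff_map]

lemma mulCoeff_congr {R : Type u} [CommRing R] {f g f' g' : PowerSeries R} {n m : ℕ} (hm : m ≤ n)
    (hf : ∀ i ≤ n, PowerSeries.coeff i f = PowerSeries.coeff i f')
    (hg : ∀ i ≤ n, PowerSeries.coeff i g = PowerSeries.coeff i g') :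
    mulCoeff P f g m = mulCoeff P f' g' m := by
  rw [mulCoeff, mulCoeff]
  congr 2
  funext k
  rcases k with k | k
  · rw [Sum.elim_inl, Sum.elim_inl, hf _ (by omega)]
  · rw [Sum.elim_inr, Sum.elim_inr, hg _ (by omega)]

include hP in
lemma mul_conv_rat {K : Type u} [CommRing K] [Algebra ℚ K] {f g h : PowerSeries K}
    (hf : PowerSeries.constantCoeff f = 1) (hg : PowerSeries.constantCoeff g = 1)
    (hh : PowerSeries.constantCoeff h = 1) (n : ℕ)
    (H : ∀ m ≤ n, PowerSeries.coeff m h = mulCoeff P f g m) :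
    ∀ k < n, ps h k = ps f k * ps g k := by
  intro k hk
  rw [← ps_ofPs (fun k => ps f k * ps g k) k]
  refine ps_congr hh (constantCoeff_ofPs _) n ?_ k hk
  intro m hm
  rw [H m hm]
  exact (mul_core hf hg (constantCoeff_ofPs (fun k => ps f k * ps g k)) m
    (fun k _ => ps_ofPs _ k) (hP m)).symm

include hP in
/-- over any ring: a series whose coefficients are given by the universal polynomials `P_m` has
power sums the products of the power sums -/
theorem mul_conv {K : Type u} [CommRing K] {f g h : PowerSeries K}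
    (hf : PowerSeries.constantCoeff f = 1) (hg : PowerSeries.constantCoeff g = 1)
    (hh : PowerSeries.constantCoeff h = 1) (n : ℕ)
    (H : ∀ m ≤ n, PowerSeries.coeff m h = mulCoeff P f g m) :
    ∀ k < n, ps h k = ps f k * ps g k := by
  -- the universal case
  let A := MvPolynomial (Fin n ⊕ Fin n) ℤ
  let F : PowerSeries A := gser n (fun k => MvPolynomial.X (Sum.inl k))
  let G : PowerSeries A := gser n (fun k => MvPolynomial.X (Sum.inr k))
  let E : PowerSeries A := gser n (fun k => mulCoeff P F G ((k : ℕ) + 1))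
  have hF : PowerSeries.constantCoeff F = 1 := constantCoeff_gser _ _
  have hG : PowerSeries.constantCoeff G = 1 := constantCoeff_gser _ _
  have hE : PowerSeries.constantCoeff E = 1 := constantCoeff_gser _ _
  have hP0 : ∀ {R : Type u} [CommRing R] (f g : PowerSeries R), mulCoeff P f g 0 = 1 := by
    intro R _ f g
    have h1 := stable_mul (R := R) (fun i : Fin 0 => (0 : R)) (fun i : Fin 0 => (0 : R)) (hP 0)
    rw [es_zero] at h1
    rw [mulCoeff, ← h1]
    congr 2
    funext k
    rcases k with k | k <;> exact k.elim0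
  have hP0' : ∀ {R : Type} [CommRing R] (f g : PowerSeries R), mulCoeff P f g 0 = 1 := by
    intro R _ f g
    have h1 := stable_mul (R := R) (fun i : Fin 0 => (0 : R)) (fun i : Fin 0 => (0 : R)) (hP 0)
    rw [es_zero] at h1
    rw [mulCoeff, ← h1]
    congr 2
    funext k
    rcases k with k | k <;> exact k.elim0
  have key : ∀ k < n, ps E k = ps F k * ps G k := by
    intro k hk
    apply MvPolynomial.map_injective (Int.castRingHom ℚ) Int.cast_injective
    rw [map_mul, ← ps_map _ hE, ← ps_map _ hF, ← ps_map _ hG]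
    refine mul_conv_rat P hP (constantCoeff_map _ hF) (constantCoeff_map _ hG)
      (constantCoeff_map _ hE) n ?_ k hk
    intro m hm
    rw [← map_mulCoeff, PowerSeries.coeff_map]
    congr 1
    rcases m with _ | m
    · rw [coeff_zero_of hE, hP0']
    · exact coeff_gser_succ _ _ _ (by omega)
  let θ : A →ₐ[ℤ] K := MvPolynomial.aeval
      (Sum.elim (fun k : Fin n => PowerSeries.coeff ((k : ℕ) + 1) f)
        (fun k : Fin n => PowerSeries.coeff ((k : ℕ) + 1) g))
  have tF : ∀ i ≤ n, PowerSeries.coeff i (PowerSeries.map (θ : A →+* K) F) =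
      PowerSeries.coeff i f := by
    intro i hi
    rw [map_gser, ← coeff_gser_coeff hf n i hi]
    congr 2
    funext k
    exact MvPolynomial.aeval_X _ _
  have tG : ∀ i ≤ n, PowerSeries.coeff i (PowerSeries.map (θ : A →+* K) G) =
      PowerSeries.coeff i g := by
    intro i hi
    rw [map_gser, ← coeff_gser_coeff hg n i hi]
    congr 2
    funext k
    exact MvPolynomial.aeval_X _ _
  have tE : ∀ i ≤ n, PowerSeries.coeff i (PowerSeries.map (θ : A →+* K) E) =
      PowerSeries.coeff i h := by
    intro i hi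
    rcases i with _ | i
    · rw [coeff_zero_of (constantCoeff_map _ hE), coeff_zero_of hh]
    · rw [PowerSeries.coeff_map, coeff_gser_succ _ _ _ (by omega), map_mulCoeff, H _ hi]
      exact mulCoeff_congr P hi tF tG
  intro k hk
  rw [← ps_congr (constantCoeff_map _ hF) hf n tF k hk,
    ← ps_congr (constantCoeff_map _ hG) hg n tG k hk,
    ← ps_congr (constantCoeff_map _ hE) hh n tE k hk, ps_map _ hE, ps_map _ hF, ps_map _ hG,
    ← map_mul, key k hk]

end mul

/-- the Adams operations of a strict lambda-ring are multiplicative -/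
theorem adamsOp_mul {K : Type u} [CommRing K] [LambdaOps K] (hK : IsSpecial K) (k : ℕ)
    (x y : K) : adamsOp k (x * y) = adamsOp k x * adamsOp k y := by
  rcases k with _ | k
  · simp [adamsOp_zero]
  choose P hP using exists_isMulPoly
  refine mul_conv P hP (constantCoeff_lamSeries x) (constantCoeff_lamSeries y)
    (constantCoeff_lamSeries (x * y)) (k + 1) ?_ k (by omega)
  intro m _
  rw [coeff_lamSeries, hK.lam_mul m (P m) (hP m), mulCoeff]
  simp only [coeff_lamSeries]

lemma adamsOp_one {K : Type u} [CommRing K] [LambdaOps K] (hK : IsSpecial K) {k : ℕ}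
    (hk : 1 ≤ k) : adamsOp k (1 : K) = 1 := by
  rw [adamsOp_rankOne' hK.lam_one_eq_zero hk, one_pow]

/-- the Adams operation of a strict lambda-ring as a ring homomorphism -/
noncomputable def psiHom {K : Type u} [CommRing K] [LambdaOps K] (hK : IsSpecial K) (k : ℕ) :
    K →+* K where
  toFun := adamsOp (k + 1)
  map_one' := adamsOp_one hK (by omega)
  map_mul' := adamsOp_mul hK _
  map_zero' := adamsOp_map_zero _
  map_add' := adamsOp_add _

@[simp]
lemma psiHom_apply {K : Type u} [CommRing K] [LambdaOps K] (hK : IsSpecial K) (k : ℕ) (x : K) :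
    psiHom hK k x = adamsOp (k + 1) x := rfl

section comp

variable (Q : ∀ i j : ℕ, MvPolynomial (Fin (i * j)) ℤ) (hQ : ∀ i j, IsCompPoly i j (Q i j))

/-- the coefficients prescribed by the universal polynomials -/
noncomputable def compCoeff {R : Type u} [CommRing R] (f : PowerSeries R) (i m : ℕ) : R :=
  MvPolynomial.aeval (fun k : Fin (i * m) => PowerSeries.coeff ((k : ℕ) + 1) f) (Q i m)

lemma map_compCoeff {R : Type u} {S : Type v} [CommRing R] [CommRing S] (φ : R →+* S)
    (f : PowerSeries R) (i m : ℕ) :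
    φ (compCoeff Q f i m) = compCoeff Q (PowerSeries.map φ f) i m := by
  rw [compCoeff, map_aeval_int, compCoeff]
  simp only [PowerSeries.coeff_map]

lemma compCoeff_congr {R : Type u} [CommRing R] {f f' : PowerSeries R} {n i m : ℕ}
    (hm : i * m ≤ n)
    (hf : ∀ i ≤ n, PowerSeries.coeff i f = PowerSeries.coeff i f') :
    compCoeff Q f i m = compCoeff Q f' i m := by
  rw [compCoeff, compCoeff]
  congr 2
  funext k
  rw [hf _ (by omega)]

include hQ in
/-- the key identity in the universal case over the rationals -/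
lemma comp_conv_rat {K : Type u} [CommRing K] [Algebra ℚ K] {f : PowerSeries K}
    (hf : PowerSeries.constantCoeff f = 1) (k k' : ℕ) :
    ps (gser (k' + 1) (fun i : Fin (k' + 1) =>
      ps (gser (k + 1) (fun m : Fin (k + 1) => compCoeff Q f ((i : ℕ) + 1) ((m : ℕ) + 1))) k)) k' =
      ps f ((k + 1) * (k' + 1) - 1) := by
  let G : ℕ → PowerSeries K := fun k => ofPs (fun l => ps f ((k + 1) * (l + 1) - 1))
  have hG : ∀ k, PowerSeries.constantCoeff (G k) = 1 := fun k => constantCoeff_ofPs _
  have h1 : ∀ i : ℕ, ps (gser (k + 1)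
      (fun m : Fin (k + 1) => compCoeff Q f i ((m : ℕ) + 1))) k = PowerSeries.coeff i (G k) := by
    intro i
    rw [← ps_ofPs (fun k => PowerSeries.coeff i (G k)) k]
    refine ps_congr (constantCoeff_gser _ _) (constantCoeff_ofPs _) (k + 1) ?_ k (by omega)
    intro m hm
    rcases m with _ | m
    · rw [coeff_zero_of (constantCoeff_gser _ _), coeff_zero_of (constantCoeff_ofPs _)]
    · rw [coeff_gser_succ _ _ _ (by omega)]
      exact (comp_core hf (constantCoeff_ofPs _) hG i (m + 1) (fun k _ l _ => ps_ofPs _ l)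
        (fun k _ => ps_ofPs _ k) (hQ i (m + 1))).symm
  have h2 : ps f ((k + 1) * (k' + 1) - 1) = ps (G k) k' :=
    (ps_ofPs (fun l => ps f ((k + 1) * (l + 1) - 1)) k').symm
  rw [h2]
  refine ps_congr (constantCoeff_gser _ _) (hG k) (k' + 1) ?_ k' (by omega)
  intro i hi
  rcases i with _ | i
  · rw [coeff_zero_of (constantCoeff_gser _ _), coeff_zero_of (hG k)]
  · rw [coeff_gser_succ _ _ _ (by omega)]
    exact h1 (i + 1)

include hQ in
/-- the key identity over any ring -/
theorem comp_conv {K : Type u} [CommRing K] {f : PowerSeries K}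
    (hf : PowerSeries.constantCoeff f = 1) (k k' : ℕ) :
    ps (gser (k' + 1) (fun i : Fin (k' + 1) =>
      ps (gser (k + 1) (fun m : Fin (k + 1) => compCoeff Q f ((i : ℕ) + 1) ((m : ℕ) + 1))) k)) k' =
      ps f ((k + 1) * (k' + 1) - 1) := by
  let M := (k + 1) * (k' + 1)
  let A := MvPolynomial (Fin M) ℤ
  let F : PowerSeries A := gser M (fun k => MvPolynomial.X k)
  have hF : PowerSeries.constantCoeff F = 1 := constantCoeff_gser _ _
  -- naturality of the left hand side
  have hnat : ∀ {R : Type} {S : Type u} [CommRing R] [CommRing S] (φ : R →+* S)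
      (f : PowerSeries R), φ (ps (gser (k' + 1) (fun i : Fin (k' + 1) =>
      ps (gser (k + 1) (fun m : Fin (k + 1) => compCoeff Q f ((i : ℕ) + 1) ((m : ℕ) + 1))) k)) k') =
      ps (gser (k' + 1) (fun i : Fin (k' + 1) => ps (gser (k + 1) (fun m : Fin (k + 1) =>
        compCoeff Q (PowerSeries.map φ f) ((i : ℕ) + 1) ((m : ℕ) + 1))) k)) k' := by
    intro R S _ _ φ f
    rw [← ps_map _ (constantCoeff_gser _ _), map_gser]
    congr 2
    funext i
    rw [← ps_map _ (constantCoeff_gser _ _), map_gser]
    congr 2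
    funext m
    rw [map_compCoeff]
  have hnat' : ∀ {R : Type} {S : Type} [CommRing R] [CommRing S] (φ : R →+* S)
      (f : PowerSeries R), φ (ps (gser (k' + 1) (fun i : Fin (k' + 1) =>
      ps (gser (k + 1) (fun m : Fin (k + 1) => compCoeff Q f ((i : ℕ) + 1) ((m : ℕ) + 1))) k)) k') =
      ps (gser (k' + 1) (fun i : Fin (k' + 1) => ps (gser (k + 1) (fun m : Fin (k + 1) =>
        compCoeff Q (PowerSeries.map φ f) ((i : ℕ) + 1) ((m : ℕ) + 1))) k)) k' := by
    intro R S _ _ φ f
    rw [← ps_map _ (constantCoeff_gser _ _), map_gser]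
    congr 2
    funext i
    rw [← ps_map _ (constantCoeff_gser _ _), map_gser]
    congr 2
    funext m
    rw [map_compCoeff]
  have key : ps (gser (k' + 1) (fun i : Fin (k' + 1) =>
      ps (gser (k + 1) (fun m : Fin (k + 1) => compCoeff Q F ((i : ℕ) + 1) ((m : ℕ) + 1))) k)) k' =
      ps F ((k + 1) * (k' + 1) - 1) := by
    apply MvPolynomial.map_injective (Int.castRingHom ℚ) Int.cast_injective
    rw [hnat', ← ps_map _ hF]
    exact comp_conv_rat Q hQ (constantCoeff_map _ hF) k k'
  let θ : A →ₐ[ℤ] K := MvPolynomial.aeval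
      (fun k : Fin M => PowerSeries.coeff ((k : ℕ) + 1) f)
  have tF : ∀ i ≤ M, PowerSeries.coeff i (PowerSeries.map (θ : A →+* K) F) =
      PowerSeries.coeff i f := by
    intro i hi
    rw [map_gser, ← coeff_gser_coeff hf M i hi]
    congr 2
    funext k
    exact MvPolynomial.aeval_X _ _
  have h1 := congrArg (θ : A →+* K) key
  rw [hnat, ← ps_map _ hF] at h1
  have hM : (k + 1) * (k' + 1) - 1 < M := by
    have : 0 < (k + 1) * (k' + 1) := by positivity
    omega
  rw [ps_congr (constantCoeff_map _ hF) hf M tF _ hM] at h1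
  rw [← h1]
  congr 2
  funext i
  congr 2
  funext m
  symm
  apply compCoeff_congr Q (n := M) _ tF
  have h2 := i.2
  have h3 := m.2
  calc ((i : ℕ) + 1) * ((m : ℕ) + 1) ≤ (k' + 1) * (k + 1) := Nat.mul_le_mul (by omega) (by omega)
    _ = M := mul_comm _ _

end comp

/-- composition of Adams operations of a strict lambda-ring -/
theorem adamsOp_adamsOp {K : Type u} [CommRing K] [LambdaOps K] (hK : IsSpecial K) (k k' : ℕ)
    (hk : 1 ≤ k) (hk' : 1 ≤ k') (x : K) : adamsOp k (adamsOp k' x) = adamsOp (k * k') x := by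
  obtain ⟨k, rfl⟩ : ∃ l, k = l + 1 := ⟨k - 1, by omega⟩
  obtain ⟨k', rfl⟩ : ∃ l, k' = l + 1 := ⟨k' - 1, by omega⟩
  choose Q hQ using exists_isCompPoly
  have h := comp_conv Q hQ (constantCoeff_lamSeries x) k k'
  have hps : ∀ (k : ℕ) (x : K), ps (lamSeries x) k = adamsOp (k + 1) x := fun _ _ => rfl
  have e : (k + 1) * (k' + 1) - 1 + 1 = (k + 1) * (k' + 1) := by
    have : 0 < (k + 1) * (k' + 1) := by positivity
    omega
  rw [hps, e] at h
  rw [← h]
  have h1 : ∀ i : ℕ, ps (gser (k + 1) (fun m : Fin (k + 1) =>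
      compCoeff Q (lamSeries x) i ((m : ℕ) + 1))) k = adamsOp (k + 1) (LambdaOps.lam i x) := by
    intro i
    rw [← hps]
    refine ps_congr (constantCoeff_gser _ _) (constantCoeff_lamSeries _) (k + 1) ?_ k (by omega)
    intro m hm
    rcases m with _ | m
    · rw [coeff_zero_of (constantCoeff_gser _ _), coeff_zero_of (constantCoeff_lamSeries _)]
    · rw [coeff_gser_succ _ _ _ (by omega), coeff_lamSeries,
        hK.lam_lam i (m + 1) (Q i (m + 1)) (hQ i (m + 1)), compCoeff]
      simp only [coeff_lamSeries]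
  rw [← hps k' x, ← psiHom_apply hK, ← ps_map _ (constantCoeff_lamSeries x)]
  refine ps_congr (constantCoeff_map _ (constantCoeff_lamSeries x)) (constantCoeff_gser _ _)
    (k' + 1) ?_ k' (by omega)
  intro i hi
  rcases i with _ | i
  · rw [coeff_zero_of (constantCoeff_gser _ _),
      coeff_zero_of (constantCoeff_map _ (constantCoeff_lamSeries x))]
  · rw [coeff_gser_succ _ _ _ (by omega), h1, PowerSeries.coeff_map, coeff_lamSeries, psiHom_apply]

end K536.AdamsSpecial
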