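import Groth.Agent.Books.Lambda2
import Groth.Prelude.Def_LambdaSp

/-!
# Pre-lambda-rings with `λ_t(1) = 1 + t`: rank one elements, integers, gamma operations
-/

set_option autoImplicit false
universe u v

open PowerSeries Finset LambdaRing

namespace K536.Basic

open Groth.Agent.Books.Lambda1 Groth.Agent.Books.Lambda2

variable {K : Type u} [CommRing K] [LambdaOps K]

/-- an element of rank one: all `λ^j` with `j ≥ 2` vanish -/
def RankOne (u : K) : Prop := ∀ j : ℕ, 2 ≤ j → LambdaOps.lam j u = 0

lemma lamSeries_rankOne {u : K} (hu : RankOne u) : lamSeries u = 1 + PowerSeries.C u * X := by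
  ext n
  rw [coeff_lamSeries]
  rcases n with _ | _ | n
  · simp [LambdaOps.lam_zero]
  · simp [LambdaOps.lam_one]
  · rw [hu _ (by omega), map_add, coeff_one, if_neg (by omega), coeff_C_mul, coeff_X,
      if_neg (by omega)]
    simp

lemma lamSeries_sum {ι : Type*} (s : Finset ι) (x : ι → K) :
    lamSeries (∑ i ∈ s, x i) = ∏ i ∈ s, lamSeries (x i) := by
  classical
  induction s using Finset.induction_on with
  | empty => simp [lamSeries_zero]
  | insert a s ha ih => rw [Finset.sum_insert ha, Finset.prod_insert ha, lamSeries_add, ih]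

lemma lamSeries_nsmul (m : ℕ) (x : K) : lamSeries (m • x) = lamSeries x ^ m := by
  induction m with
  | zero => simp [lamSeries_zero]
  | succ m ih => rw [succ_nsmul, lamSeries_add, ih, pow_succ]

lemma lamSeries_natCast (h1 : RankOne (1 : K)) (m : ℕ) :
    lamSeries (m : K) = (1 + X) ^ m := by
  have h : (m : K) = m • (1 : K) := by simp
  rw [h, lamSeries_nsmul, lamSeries_rankOne h1]
  simp

lemma lam_natCast (h1 : RankOne (1 : K)) (m i : ℕ) :
    LambdaOps.lam i (m : K) = (m.choose i : K) := by
  rw [← coeff_lamSeries, lamSeries_natCast h1]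
  have h2 : ((1 + X : PowerSeries K)) ^ m =
      (((1 + Polynomial.X) ^ m : Polynomial K) : PowerSeries K) := by
    simp
  rw [h2, Polynomial.coeff_coe, Polynomial.coeff_one_add_X_pow]

/-- `γ^n(x) = λ^n(x + n - 1)` -/
lemma gamma_eq_lam (h1 : RankOne (1 : K)) (n : ℕ) (x : K) :
    gamma n x = LambdaOps.lam n (x + (n : K) - 1) := by
  rcases n with _ | n
  · rw [gamma_zero, LambdaOps.lam_zero]
  · have h : x + ((n + 1 : ℕ) : K) - 1 = x + (n : K) := by push_cast; ring
    rw [h, LambdaOps.lam_add, gamma, if_neg (by omega)]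
    apply Finset.sum_congr rfl
    intro j hj
    have hj' := Finset.mem_range.mp hj
    rw [lam_natCast h1]
    rcases j with _ | j
    · rw [if_pos rfl, mul_zero, Nat.choose_eq_zero_of_lt (by omega)]
      simp
    · rw [if_neg (by omega), mul_comm]
      congr 2
      rw [← Nat.choose_symm (by omega : n + 1 - (j + 1) ≤ n)]
      congr 1
      omega

lemma gammaSeries_rankOne {u : K} (hu : RankOne u) :
    gammaSeries u = 1 + PowerSeries.C u * T K := by
  rw [gammaSeries_eq_subst, lamSeries_rankOne hu, PowerSeries.subst_add hasSubst_T,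
    PowerSeries.subst_mul hasSubst_T, PowerSeries.subst_X hasSubst_T]
  congr 1
  · rw [← coe_substAlgHom hasSubst_T, map_one]
  · rw [PowerSeries.subst_C]; rfl

lemma one_sub_mul_gammaSeries_rankOne {u : K} (hu : RankOne u) :
    (1 - X) * gammaSeries u = 1 + PowerSeries.C (u - 1) * X := by
  rw [gammaSeries_rankOne hu, map_sub, map_one]
  have := T_mul_one_sub (K := K)
  linear_combination PowerSeries.C u * this

lemma one_sub_mul_gammaSeries_one (h1 : RankOne (1 : K)) :
    (1 - X) * gammaSeries (1 : K) = 1 := by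
  rw [one_sub_mul_gammaSeries_rankOne h1]
  simp

lemma gammaSeries_neg_one (h1 : RankOne (1 : K)) : gammaSeries (-1 : K) = 1 - X := by
  have h := gammaSeries_mul_neg (1 : K)
  have h2 := one_sub_mul_gammaSeries_one h1
  calc gammaSeries (-1 : K) = ((1 - X) * gammaSeries (1 : K)) * gammaSeries (-1) := by
        rw [h2, one_mul]
    _ = (1 - X) * (gammaSeries (1 : K) * gammaSeries (-1)) := by ring
    _ = _ := by rw [h, mul_one]

lemma gammaSeries_rankOne_sub_one (h1 : RankOne (1 : K)) {u : K} (hu : RankOne u) :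
    gammaSeries (u - 1) = 1 + PowerSeries.C (u - 1) * X := by
  rw [sub_eq_add_neg u 1, gammaSeries_add, gammaSeries_neg_one h1, mul_comm,
    one_sub_mul_gammaSeries_rankOne hu, sub_eq_add_neg]

lemma gammaSeries_sum {ι : Type*} (s : Finset ι) (x : ι → K) :
    gammaSeries (∑ i ∈ s, x i) = ∏ i ∈ s, gammaSeries (x i) := by
  classical
  induction s using Finset.induction_on with
  | empty => simp [gammaSeries_zero]
  | insert a s ha ih => rw [Finset.sum_insert ha, Finset.prod_insert ha, gammaSeries_add, ih]

/-- coefficients of a product of linear factors -/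
lemma coeff_prod_one_add {R : Type*} [CommRing R] {ι : Type*} (s : Finset ι) (y : ι → R)
    (k : ℕ) : PowerSeries.coeff k (∏ i ∈ s, (1 + PowerSeries.C (y i) * X)) =
      ∑ t ∈ s.powersetCard k, ∏ i ∈ t, y i := by
  classical
  rw [Finset.prod_one_add, map_sum]
  have h3 : ∀ t : Finset ι, PowerSeries.coeff k
      (∏ i ∈ t, (PowerSeries.C (y i) * PowerSeries.X)) =
      if t.card = k then ∏ i ∈ t, y i else 0 := by
    intro t
    rw [Finset.prod_mul_distrib, ← map_prod, Finset.prod_const, PowerSeries.coeff_C_mul,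
      PowerSeries.coeff_X_pow]
    split_ifs with h h' h'
    · simp
    · exact absurd h.symm h'
    · exact absurd h'.symm h
    · simp
  simp only [h3]
  rw [← Finset.sum_filter]
  apply Finset.sum_congr
  · ext t
    simp [Finset.mem_powersetCard]
  · intros; rfl

/-- the gamma operations of a sum of rank one elements minus their number -/
lemma gamma_sum_rankOne (h1 : RankOne (1 : K)) {ι : Type*} (s : Finset ι) (y : ι → K)
    (hy : ∀ i ∈ s, RankOne (y i)) (k : ℕ) :
    gamma k (∑ i ∈ s, (y i - 1)) = ∑ t ∈ s.powersetCard k, ∏ i ∈ t, (y i - 1) := by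
  rw [← coeff_gammaSeries, gammaSeries_sum, ← coeff_prod_one_add]
  congr 1
  exact Finset.prod_congr rfl (fun i hi => gammaSeries_rankOne_sub_one h1 (hy i hi))

/-- the lambda operations of a sum of rank one elements -/
lemma lam_sum_rankOne {ι : Type*} (s : Finset ι) (y : ι → K)
    (hy : ∀ i ∈ s, RankOne (y i)) (k : ℕ) :
    LambdaOps.lam k (∑ i ∈ s, y i) = ∑ t ∈ s.powersetCard k, ∏ i ∈ t, y i := by
  rw [← coeff_lamSeries, lamSeries_sum, ← coeff_prod_one_add]
  congr 1
  exact Finset.prod_congr rfl (fun i hi => lamSeries_rankOne (hy i hi))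

/-- the alternating sum identity -/
lemma lam_add_sub_one (h1 : RankOne (1 : K)) (n : ℕ) (x : K) :
    LambdaOps.lam n (x - 1) =
      (-1 : K) ^ n * ∑ i ∈ range (n + 1), (-1 : K) ^ i * LambdaOps.lam i x := by
  have h0 : lamSeries (x - 1) * (1 + X) = lamSeries x := by
    have h2 : lamSeries (1 : K) = 1 + X := by
      rw [lamSeries_rankOne h1]; simp
    rw [← h2, ← lamSeries_add, sub_add_cancel]
  have h3 : ∀ k, LambdaOps.lam (k + 1) x = LambdaOps.lam (k + 1) (x - 1) +
      LambdaOps.lam k (x - 1) := by
    intro k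
    rw [← coeff_lamSeries, ← h0, mul_add, mul_one, map_add, coeff_succ_mul_X, coeff_lamSeries,
      coeff_lamSeries]
  induction n with
  | zero => simp [LambdaOps.lam_zero]
  | succ n ih =>
    rw [Finset.sum_range_succ, mul_add, h3 n, pow_succ]
    have h4 : (-1 : K) ^ n * (-1) ^ n = 1 := by
      rw [← mul_pow]; simp
    linear_combination (-1 : K) * ih -
      (LambdaOps.lam (n + 1) (x - 1) + LambdaOps.lam n (x - 1)) * h4

end K536.Basic
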