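import Groth.Agent.LambdaRing.K536.Basic
import Groth.Agent.Books.Lambda3
import Groth.Prelude.Def_W4bkmilneecrracsp2Inv

/-!
# Involutions on lambda-rings with positive structure
-/

set_option autoImplicit false
universe u

open Finset LambdaRing

namespace K536.Inv

open Groth.Agent.Books.Lambda1 Groth.Agent.Books.Lambda2 K536.Basic

variable {K : Type u} [CommRing K] [LambdaOps K]

lemma rankOne_of_isLine (P : PosStructure K) {u : K} (hu : P.IsLine u) : RankOne u := by
  intro j hj
  exact P.lam_eq_zero u hu.1 j (by rw [hu.2]; exact_mod_cast hj)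

lemma rankOne_one (P : PosStructure K) : RankOne (1 : K) := rankOne_of_isLine P (isLine_one P)

/-- the alternating sum of the exterior powers of a positive element -/
lemma gamma_aug_sub (P : PosStructure K) (e : K) (m : ℕ) :
    gamma m (e - (m : K)) = (-1 : K) ^ m * ∑ i ∈ range (m + 1), (-1 : K) ^ i * LambdaOps.lam i e := by
  rw [gamma_eq_lam (rankOne_one P), sub_add_cancel, lam_add_sub_one (rankOne_one P)]

lemma lamAlt_eq (P : PosStructure K) (e : K) (m : ℕ) :
    ∑ i ∈ range (m + 1), (-1 : K) ^ i * LambdaOps.lam i e = (-1 : K) ^ m * gamma m (e - (m : K)) := by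
  rw [gamma_aug_sub P, ← mul_assoc, ← mul_pow]
  simp

/-- the alternating sum of the exterior powers lies in the `m`-th step of the filtration -/
lemma lamAlt_mem (P : PosStructure K) (e : K) (he : e ∈ P.pos) :
    ∑ i ∈ range ((P.aug e).toNat + 1), (-1 : K) ^ i * LambdaOps.lam i e ∈
      gammaFiltration P (P.aug e).toNat := by
  rw [lamAlt_eq P]
  exact mul_mem_filtration_left P _ _ _
    (gamma_mem_filtration P (Groth.Agent.Books.Lambda3.aug_sub_toNat P e he) _)

/-- the splitting of a positive element, with an involution, indexed by `Fin` -/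
lemma exists_split_inv (P : PosStructure K) (inv : K → K) (hS : HasInvSplitting P inv) (e : K)
    (he : e ∈ P.pos) :
    ∃ (L : PosLambdaRing.{u}) (inv' : L.carrier → L.carrier) (f : K →+* L.carrier),
      IsExtension P L.posStr f ∧ IsInvolution L.posStr inv' ∧ (∀ x : K, f (inv x) = inv' (f x)) ∧
      ∃ u : Fin (P.aug e).toNat → L.carrier, (∀ i, L.posStr.IsLine (u i)) ∧
        ∑ i, u i = f e := by
  obtain ⟨L, inv', f, hf, hi, hc, s, hs, hsum⟩ := hS e he
  refine ⟨L, inv', f, hf, hi, hc, ?_⟩
  have hcard : Multiset.card s = (P.aug e).toNat := by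
    have h1 := aug_multiset_sum L.posStr s hs
    rw [hsum, hf.aug_comp] at h1
    change P.aug e = _ at h1
    rw [h1]
    simp
  induction s using Quot.induction_on with
  | h l =>
    have hl : l.length = (P.aug e).toNat := by simpa using hcard
    rw [← hl]
    refine ⟨l.get, ?_, ?_⟩
    · intro i
      apply hs
      simp
    · rw [← hsum, ← List.sum_ofFn, List.ofFn_get]
      simp

/-- an involution as an additive homomorphism -/
def invHom {P : PosStructure K} {inv : K → K} (h : IsInvolution P inv) : K →+ K where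
  toFun := inv
  map_zero' := by
    have h1 := h.map_add 0 0
    rw [add_zero] at h1
    exact left_eq_add.mp h1
  map_add' := h.map_add

lemma inv_sum {P : PosStructure K} {inv : K → K} (h : IsInvolution P inv) {ι : Type*}
    (s : Finset ι) (x : ι → K) : inv (∑ i ∈ s, x i) = ∑ i ∈ s, inv (x i) :=
  map_sum (invHom h) x s

/-- complementation of subsets for products of invertible elements -/
lemma esymm_compl {R : Type*} [CommRing R] {m : ℕ} (u v : Fin m → R)
    (huv : ∀ i, v i * u i = 1) (i : ℕ) (hi : i ≤ m) :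
    ∑ t ∈ (univ : Finset (Fin m)).powersetCard i, ∏ a ∈ t, u a =
      (∑ t ∈ (univ : Finset (Fin m)).powersetCard (m - i), ∏ a ∈ t, v a) * ∏ a, u a := by
  rw [Finset.sum_mul]
  refine Finset.sum_nbij' (fun t => tᶜ) (fun t => tᶜ) ?_ ?_ ?_ ?_ ?_
  · intro t ht
    rw [Finset.mem_powersetCard] at ht ⊢
    refine ⟨Finset.subset_univ _, ?_⟩
    rw [Finset.card_compl, Fintype.card_fin, ht.2]
  · intro t ht
    rw [Finset.mem_powersetCard] at ht ⊢
    refine ⟨Finset.subset_univ _, ?_⟩
    rw [Finset.card_compl, Fintype.card_fin, ht.2]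
    omega
  · intro t _
    exact compl_compl t
  · intro t _
    exact compl_compl t
  · intro t _
    rw [← Finset.prod_mul_prod_compl t u, mul_comm (∏ a ∈ t, u a), ← mul_assoc,
      ← Finset.prod_mul_distrib]
    rw [Finset.prod_congr rfl (fun a _ => huv a), Finset.prod_const_one, one_mul]

section main

variable (P : PosStructure K) (inv : K → K) (hV : IsInvolution P inv) (hS : HasInvSplitting P inv)

include hS in
lemma lam_eq_inv (e : K) (he : e ∈ P.pos) (i : ℕ) (hi : i ≤ (P.aug e).toNat) :
    LambdaOps.lam i e =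
      LambdaOps.lam ((P.aug e).toNat - i) (inv e) * LambdaOps.lam (P.aug e).toNat e := by
  obtain ⟨L, inv', f, hf, hi', hc, u, hu, hsum⟩ := exists_split_inv P inv hS e he
  apply hf.injective
  rw [map_mul, hf.isLambdaHom, hf.isLambdaHom, hf.isLambdaHom, hc, ← hsum, inv_sum hi',
    lam_sum_rankOne univ u (fun a _ => rankOne_of_isLine _ (hu a)),
    lam_sum_rankOne univ u (fun a _ => rankOne_of_isLine _ (hu a)),
    lam_sum_rankOne univ _ (fun a _ => rankOne_of_isLine _ (hi'.inv_line _ (hu a)))]
  have h1 : ∑ t ∈ (univ : Finset (Fin (P.aug e).toNat)).powersetCard (P.aug e).toNat,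
      ∏ a ∈ t, u a = ∏ a, u a := by
    have h2 := Finset.powersetCard_self (univ : Finset (Fin (P.aug e).toNat))
    rw [Finset.card_univ, Fintype.card_fin] at h2
    rw [h2, Finset.sum_singleton]
  rw [h1]
  exact esymm_compl u (fun a => inv' (u a)) (fun a => hi'.inv_mul_self _ (hu a)) i hi

include hS in
/-- `γ^m(e - m) = λ_(-1)(e^∨) λ^m(e)` -/
lemma gamma_eq_lamAlt_inv (e : K) (he : e ∈ P.pos) :
    gamma (P.aug e).toNat (e - ((P.aug e).toNat : K)) =
      (∑ i ∈ range ((P.aug e).toNat + 1), (-1 : K) ^ i * LambdaOps.lam i (inv e)) *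
        LambdaOps.lam (P.aug e).toNat e := by
  rw [gamma_aug_sub P, Finset.sum_mul, Finset.mul_sum]
  rw [← Finset.sum_range_reflect]
  apply Finset.sum_congr rfl
  intro i hi
  have hi' : i ≤ (P.aug e).toNat := by
    have := Finset.mem_range.mp hi
    omega
  have e1 : (P.aug e).toNat + 1 - 1 - i = (P.aug e).toNat - i := by omega
  rw [e1, lam_eq_inv P inv hS e he ((P.aug e).toNat - i) (by omega)]
  have e2 : (P.aug e).toNat - ((P.aug e).toNat - i) = i := by omega
  rw [e2]
  have h3 : (-1 : K) ^ (P.aug e).toNat * (-1) ^ ((P.aug e).toNat - i) = (-1) ^ i := by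
    rw [← pow_add]
    have h4 : (P.aug e).toNat + ((P.aug e).toNat - i) = i + 2 * ((P.aug e).toNat - i) := by omega
    rw [h4, pow_add, pow_mul]
    simp
  rw [← mul_assoc, h3, mul_assoc]

include hS in
/-- `γ^d(q^∨ - d) = λ_(-1)(q) λ^d(q^∨)` -/
lemma gamma_inv_eq (q : K) (hq : q ∈ P.pos) :
    gamma (P.aug q).toNat (inv q - ((P.aug q).toNat : K)) =
      (∑ i ∈ range ((P.aug q).toNat + 1), (-1 : K) ^ i * LambdaOps.lam i q) *
        LambdaOps.lam (P.aug q).toNat (inv q) ∧
    P.aug (LambdaOps.lam (P.aug q).toNat (inv q)) = 1 := by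
  obtain ⟨L, inv', f, hf, hi', hc, u, hu, hsum⟩ := exists_split_inv P inv hS q hq
  have h1 : ∀ v : Fin (P.aug q).toNat → L.carrier,
      ∑ t ∈ (univ : Finset (Fin (P.aug q).toNat)).powersetCard (P.aug q).toNat,
      ∏ a ∈ t, v a = ∏ a, v a := by
    intro v
    have h2 := Finset.powersetCard_self (univ : Finset (Fin (P.aug q).toNat))
    rw [Finset.card_univ, Fintype.card_fin] at h2
    rw [h2, Finset.sum_singleton]
  have hlam : f (LambdaOps.lam (P.aug q).toNat (inv q)) = ∏ a, inv' (u a) := by
    rw [hf.isLambdaHom, hc, ← hsum, inv_sum hi',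
      lam_sum_rankOne univ _ (fun a _ => rankOne_of_isLine _ (hi'.inv_line _ (hu a))), h1]
  constructor
  · apply hf.injective
    rw [lamAlt_eq P, map_mul, hlam, map_mul, Groth.Agent.Books.Lambda3.map_gamma hf.isLambdaHom,
      Groth.Agent.Books.Lambda3.map_gamma hf.isLambdaHom, map_sub, map_sub, hc, ← hsum,
      inv_sum hi', map_natCast]
    have h3 : ∑ a, inv' (u a) - (((P.aug q).toNat : ℕ) : L.carrier) = ∑ a, (inv' (u a) - 1) := by
      simp
    have h4 : ∑ a, u a - (((P.aug q).toNat : ℕ) : L.carrier) = ∑ a, (u a - 1) := by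
      simp
    rw [h3, h4, gamma_sum_rankOne (rankOne_one L.posStr) univ _
      (fun a _ => rankOne_of_isLine _ (hi'.inv_line _ (hu a))),
      gamma_sum_rankOne (rankOne_one L.posStr) univ _ (fun a _ => rankOne_of_isLine _ (hu a)),
      h1, h1, mul_assoc, ← Finset.prod_mul_distrib]
    have h5 : f ((-1) ^ (P.aug q).toNat) = ∏ _a : Fin (P.aug q).toNat, (-1 : L.carrier) := by
      simp
    rw [h5, ← Finset.prod_mul_distrib]
    apply Finset.prod_congr rfl
    intro a _
    have := hi'.inv_mul_self _ (hu a)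
    linear_combination this
  · rw [← hf.aug_comp, hlam, map_prod]
    exact Finset.prod_eq_one (fun a _ => (hi'.inv_line _ (hu a)).2)

include hS in
lemma gamma_inv_sub_mem (q : K) (hq : q ∈ P.pos) :
    gamma (P.aug q).toNat (inv q - ((P.aug q).toNat : K)) -
        (∑ i ∈ range ((P.aug q).toNat + 1), (-1 : K) ^ i * LambdaOps.lam i q) ∈
      gammaFiltration P ((P.aug q).toNat + 1) := by
  obtain ⟨h1, h2⟩ := gamma_inv_eq P inv hS q hq
  have h3 : gamma (P.aug q).toNat (inv q - ((P.aug q).toNat : K)) -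
        (∑ i ∈ range ((P.aug q).toNat + 1), (-1 : K) ^ i * LambdaOps.lam i q) =
      (∑ i ∈ range ((P.aug q).toNat + 1), (-1 : K) ^ i * LambdaOps.lam i q) *
        (LambdaOps.lam (P.aug q).toNat (inv q) - 1) := by
    rw [h1]; ring
  rw [h3]
  apply mul_mem_filtration P _ _ _ _ (lamAlt_mem P q hq)
  have h4 : P.aug (LambdaOps.lam (P.aug q).toNat (inv q) - 1) = 0 := by
    rw [map_sub, h2, map_one, sub_self]
  have := gamma_mem_filtration P h4 1
  rwa [gamma_one] at this

end main

section push

variable {KY KX : Type u} [CommRing KY] [LambdaOps KY] [CommRing KX] [LambdaOps KX]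
  (PY : PosStructure KY) (PX : PosStructure KX)
  (g : KY →+* KX) (hg : IsLambdaHom g) (hgaug : ∀ y : KY, PX.aug (g y) = PY.aug y)
  (hgsurj : Function.Surjective g)

include hg hgaug hgsurj in
/-- a surjective lambda-homomorphism is surjective on the gamma filtration -/
lemma exists_lift (m : ℕ) (x : KX) (hx : x ∈ gammaFiltration PX m) :
    ∃ y ∈ gammaFiltration PY m, g y = x := by
  by_cases hm : m = 0
  · subst hm
    obtain ⟨y, hy⟩ := hgsurj x
    exact ⟨y, mem_filtration_zero PY y, hy⟩
  rw [filtration_of_ne_zero PX hm] at hx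
  refine AddSubgroup.closure_induction
    (p := fun x _ => ∃ y ∈ gammaFiltration PY m, g y = x) ?_ ?_ ?_ ?_ hx
  · rintro x ⟨l, hl, hs, rfl⟩
    choose s hs' using hgsurj
    refine ⟨((l.map fun p => (p.1, s p.2)).map fun p => gamma p.1 p.2).prod, ?_, ?_⟩
    · apply gens_subset PY m
      refine ⟨l.map fun p => (p.1, s p.2), ?_, ?_, rfl⟩
      · intro p hp
        obtain ⟨p', hp', rfl⟩ := List.mem_map.mp hp
        change PY.aug (s p'.2) = 0
        rw [← hgaug, hs']
        exact hl p' hp'
      · rw [List.map_map]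
        exact hs
    · rw [map_list_prod, List.map_map, List.map_map]
      congr 1
      apply List.map_congr_left
      intro p _
      simp only [Function.comp_apply]
      rw [Groth.Agent.Books.Lambda3.map_gamma hg, hs']
  · exact ⟨0, AddSubgroup.zero_mem _, map_zero g⟩
  · rintro x x' _ _ ⟨y, hy, rfl⟩ ⟨y', hy', rfl⟩
    exact ⟨y + y', AddSubgroup.add_mem _ hy hy', map_add g y y'⟩
  · rintro x _ ⟨y, hy, rfl⟩
    exact ⟨-y, AddSubgroup.neg_mem _ hy, map_neg g y⟩

end push

end K536.Inv
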