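import Groth.Agent.LambdaRing.K536.Basic

/-!
# Adams operations without augmentation: additivity, Newton recurrence, functoriality
-/

set_option autoImplicit false
universe u v

open PowerSeries Finset LambdaRing

namespace K536.Newton

open Groth.Agent.Books.Lambda1 Groth.Agent.Books.Lambda2 K536.Basic

section basic

variable {K : Type u} [CommRing K] [LambdaOps K]

lemma lamSeries_mul_inv (x : K) : lamSeries x * (lamSeries x).invOfUnit 1 = 1 :=
  mul_invOfUnit _ _ (by rw [constantCoeff_lamSeries]; rfl)

lemma logDeriv_mul (x : K) :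
    logDerivSeries x * lamSeries x = PowerSeries.derivative K (lamSeries x) := by
  rw [logDerivSeries, mul_assoc, mul_comm ((lamSeries x).invOfUnit 1), lamSeries_mul_inv, mul_one]

lemma eq_logDeriv {x : K} {f : PowerSeries K}
    (h : f * lamSeries x = PowerSeries.derivative K (lamSeries x)) : f = logDerivSeries x := by
  rw [← logDeriv_mul] at h
  exact (isUnit_lamSeries x).mul_right_cancel h

lemma logDeriv_add (x y : K) :
    logDerivSeries (x + y) = logDerivSeries x + logDerivSeries y := by
  symm
  apply eq_logDeriv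
  rw [lamSeries_add, Derivation.leibniz, ← logDeriv_mul, ← logDeriv_mul, smul_eq_mul, smul_eq_mul]
  ring

lemma adamsOp_succ (k : ℕ) (x : K) :
    adamsOp (k + 1) x = (-1) ^ k * PowerSeries.coeff k (logDerivSeries x) := rfl

lemma adamsOp_zero (x : K) : adamsOp 0 x = 0 := rfl

lemma coeff_logDeriv (k : ℕ) (x : K) :
    PowerSeries.coeff k (logDerivSeries x) = (-1) ^ k * adamsOp (k + 1) x := by
  rw [adamsOp_succ, ← mul_assoc, ← mul_pow]
  simp

lemma adamsOp_add (k : ℕ) (x y : K) : adamsOp k (x + y) = adamsOp k x + adamsOp k y := by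
  rcases k with _ | k
  · simp [adamsOp_zero]
  · rw [adamsOp_succ, adamsOp_succ, adamsOp_succ, logDeriv_add, map_add, mul_add]

/-- the Adams operation as an additive homomorphism -/
noncomputable def psi (K : Type u) [CommRing K] [LambdaOps K] (k : ℕ) : K →+ K where
  toFun := adamsOp k
  map_zero' := by
    have h := adamsOp_add k (0 : K) 0
    rw [add_zero] at h
    exact left_eq_add.mp h
  map_add' := adamsOp_add k

@[simp]
lemma psi_apply (k : ℕ) (x : K) : psi K k x = adamsOp k x := rfl

lemma adamsOp_map_zero (k : ℕ) : adamsOp k (0 : K) = 0 := (psi K k).map_zero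

lemma adamsOp_neg (k : ℕ) (x : K) : adamsOp k (-x) = - adamsOp k x := (psi K k).map_neg x

lemma adamsOp_sub (k : ℕ) (x y : K) : adamsOp k (x - y) = adamsOp k x - adamsOp k y :=
  (psi K k).map_sub x y

lemma adamsOp_sum {ι : Type*} (s : Finset ι) (x : ι → K) (k : ℕ) :
    adamsOp k (∑ i ∈ s, x i) = ∑ i ∈ s, adamsOp k (x i) := map_sum (psi K k) x s

/-- Newton's recurrence -/
lemma newton (n : ℕ) (x : K) : ((n : K) + 1) * LambdaOps.lam (n + 1) x =
    ∑ ij ∈ antidiagonal n, (-1) ^ ij.1 * adamsOp (ij.1 + 1) x * LambdaOps.lam ij.2 x := by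
  have h := congrArg (PowerSeries.coeff n) (logDeriv_mul x)
  rw [coeff_derivative, coeff_mul, coeff_lamSeries] at h
  rw [mul_comm, ← h]
  apply Finset.sum_congr rfl
  intro ij _
  rw [coeff_logDeriv, coeff_lamSeries]

lemma adamsOp_one_index (x : K) : adamsOp 1 x = x := by
  have h := newton 0 x
  simp [LambdaOps.lam_one, LambdaOps.lam_zero] at h
  exact h.symm

/-- Newton's recurrence solved for the Adams operation -/
lemma adamsOp_eq (n : ℕ) (x : K) : adamsOp (n + 1) x =
    (-1) ^ n * (((n : K) + 1) * LambdaOps.lam (n + 1) x -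
      ∑ i ∈ range n, (-1) ^ i * adamsOp (i + 1) x * LambdaOps.lam (n - i) x) := by
  rw [newton, Finset.Nat.sum_antidiagonal_eq_sum_range_succ_mk, Finset.sum_range_succ,
    Nat.sub_self, LambdaOps.lam_zero, mul_one, add_sub_cancel_left, ← mul_assoc, ← mul_pow]
  simp

lemma logDeriv_rankOne {u : K} (hu : RankOne u) :
    logDerivSeries u = PowerSeries.mk (fun n => (-1) ^ n * u ^ (n + 1)) := by
  symm
  apply eq_logDeriv
  rw [lamSeries_rankOne hu]
  ext n
  rw [mul_add, mul_one, map_add, coeff_mk, mul_comm (PowerSeries.C u), ← mul_assoc]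
  rw [coeff_derivative, map_add]
  rcases n with _ | n
  · rw [coeff_mul_C, coeff_zero_mul_X]
    simp [coeff_one]
  · rw [coeff_mul_C, coeff_succ_mul_X, coeff_mk, coeff_one, if_neg (by omega), coeff_mul_C,
      coeff_X, if_neg (by omega)]
    ring

lemma adamsOp_rankOne {u : K} (hu : RankOne u) (k : ℕ) :
    adamsOp (k + 1) u = u ^ (k + 1) := by
  rw [adamsOp_succ, logDeriv_rankOne hu, coeff_mk, ← mul_assoc, ← mul_pow]
  simp

lemma adamsOp_rankOne' {u : K} (hu : RankOne u) {k : ℕ} (hk : 1 ≤ k) :
    adamsOp k u = u ^ k := by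
  obtain ⟨k, rfl⟩ : ∃ l, k = l + 1 := ⟨k - 1, by omega⟩
  exact adamsOp_rankOne hu k

end basic

section hom

variable {K : Type u} {K' : Type v} [CommRing K] [LambdaOps K] [CommRing K'] [LambdaOps K']

/-- a ring homomorphism commuting with the lambda operations, in arbitrary universes -/
def IsLamHom (f : K →+* K') : Prop := ∀ (n : ℕ) (x : K), f (LambdaOps.lam n x) = LambdaOps.lam n (f x)

lemma map_lamSeries {f : K →+* K'} (hf : IsLamHom f) (x : K) :
    PowerSeries.map f (lamSeries x) = lamSeries (f x) := by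
  ext n
  rw [coeff_map, coeff_lamSeries, coeff_lamSeries, hf]

lemma map_logDeriv {f : K →+* K'} (hf : IsLamHom f) (x : K) :
    PowerSeries.map f (logDerivSeries x) = logDerivSeries (f x) := by
  apply eq_logDeriv
  rw [← map_lamSeries hf, ← map_mul, logDeriv_mul]
  ext n
  simp [coeff_derivative]

lemma map_adamsOp {f : K →+* K'} (hf : IsLamHom f) (k : ℕ) (x : K) :
    f (adamsOp k x) = adamsOp k (f x) := by
  rcases k with _ | k
  · simp [adamsOp_zero]
  · rw [adamsOp_succ, adamsOp_succ, map_mul, ← map_logDeriv hf, coeff_map]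
    simp

/-- over torsion-free targets, commuting with the Adams operations is enough -/
lemma isLamHom_of_adamsOp {f : K →+* K'} (htf : ∀ (n : ℕ) (x : K'), ((n : K') + 1) * x = 0 → x = 0)
    (hf : ∀ k : ℕ, 1 ≤ k → ∀ x : K, f (adamsOp k x) = adamsOp k (f x)) : IsLamHom f := by
  intro n
  induction n using Nat.strong_induction_on with
  | _ n ih =>
    intro x
    rcases n with _ | n
    · rw [LambdaOps.lam_zero, LambdaOps.lam_zero, map_one]
    · have h1 := newton n x
      have h2 := newton n (f x)
      have h3 : ((n : K') + 1) * f (LambdaOps.lam (n + 1) x) =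
          ((n : K') + 1) * LambdaOps.lam (n + 1) (f x) := by
        have h4 : ((n : K') + 1) * f (LambdaOps.lam (n + 1) x) =
            f (((n : K) + 1) * LambdaOps.lam (n + 1) x) := by simp
        rw [h4, h1, h2, map_sum]
        apply Finset.sum_congr rfl
        intro ij hij
        have := Finset.mem_antidiagonal.mp hij
        rw [map_mul, map_mul, hf _ (by omega), ih _ (by omega)]
        simp
      rw [← sub_eq_zero] at h3 ⊢
      rw [← mul_sub] at h3
      exact htf n _ h3

end hom

end K536.Newton
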