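import Groth.Agent.LambdaRing.K536.Newton
import Mathlib.Algebra.Algebra.Rat

/-!
# Power sums attached to a power series with constant term one

For a power series `f` with constant term `1` over a commutative ring the sequence
`ps f k = (-1)^k * coeff k (f'/f)` is the sequence of power sums `p_(k+1)` attached to the
elementary symmetric functions `coeff i f`.
-/

set_option autoImplicit false
universe u v

open PowerSeries Finset LambdaRing

namespace K536.PowerSum

section ring

variable {R : Type u} [CommRing R]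

/-- the `(k+1)`-st power sum attached to a power series with constant term `1` -/
noncomputable def ps (f : PowerSeries R) (k : ℕ) : R :=
  (-1) ^ k * PowerSeries.coeff k (PowerSeries.derivative R f * f.invOfUnit 1)

lemma adamsOp_succ_eq_ps [LambdaOps R] (k : ℕ) (x : R) :
    adamsOp (k + 1) x = ps (lamSeries x) k := rfl

lemma ps_def (f : PowerSeries R) (k : ℕ) :
    PowerSeries.coeff k (PowerSeries.derivative R f * f.invOfUnit 1) = (-1) ^ k * ps f k := by
  rw [ps, ← mul_assoc, ← mul_pow]; simp

lemma mul_inv {f : PowerSeries R} (hf : constantCoeff f = 1) : f * f.invOfUnit 1 = 1 :=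
  mul_invOfUnit _ _ (by rw [hf]; rfl)

lemma isUnit_of {f : PowerSeries R} (hf : constantCoeff f = 1) : IsUnit f := by
  rw [PowerSeries.isUnit_iff_constantCoeff, hf]
  exact isUnit_one

lemma coeff_zero_of {f : PowerSeries R} (hf : constantCoeff f = 1) : coeff 0 f = 1 := by
  rw [coeff_zero_eq_constantCoeff_apply, hf]

/-- Newton's recurrence -/
lemma newton {f : PowerSeries R} (hf : constantCoeff f = 1) (n : ℕ) :
    ((n : R) + 1) * coeff (n + 1) f =
      ∑ ij ∈ antidiagonal n, (-1) ^ ij.1 * ps f ij.1 * coeff ij.2 f := by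
  have h0 : (PowerSeries.derivative R f * f.invOfUnit 1) * f = PowerSeries.derivative R f := by
    rw [mul_assoc, mul_comm (f.invOfUnit 1), mul_inv hf, mul_one]
  have h := congrArg (PowerSeries.coeff n) h0
  rw [coeff_derivative, coeff_mul] at h
  rw [mul_comm, ← h]
  apply Finset.sum_congr rfl
  intro ij _
  rw [ps_def]

/-- Newton's recurrence characterizes the power sums -/
lemma ps_unique {f : PowerSeries R} (hf : constantCoeff f = 1) (c : ℕ → R) (N : ℕ)
    (hc : ∀ n < N, ((n : R) + 1) * coeff (n + 1) f =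
      ∑ ij ∈ antidiagonal n, (-1) ^ ij.1 * c ij.1 * coeff ij.2 f) :
    ∀ k < N, c k = ps f k := by
  intro k
  induction k using Nat.strong_induction_on with
  | _ k ih =>
    intro hk
    have h1 := hc k hk
    rw [newton hf, Finset.Nat.sum_antidiagonal_eq_sum_range_succ_mk,
      Finset.Nat.sum_antidiagonal_eq_sum_range_succ_mk, Finset.sum_range_succ,
      Finset.sum_range_succ] at h1
    have h2 : ∑ x ∈ range k, (-1) ^ (x, k - x).1 * ps f (x, k - x).1 * coeff (x, k - x).2 f =
        ∑ x ∈ range k, (-1) ^ (x, k - x).1 * c (x, k - x).1 * coeff (x, k - x).2 f := by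
      apply Finset.sum_congr rfl
      intro i hi
      have := Finset.mem_range.mp hi
      rw [← ih i this (by omega)]
    rw [h2, add_right_inj] at h1
    simp only [Nat.sub_self] at h1
    rw [coeff_zero_of hf, mul_one, mul_one] at h1
    have h3 : (-1 : R) ^ k * ((-1) ^ k * ps f k) = (-1) ^ k * ((-1) ^ k * c k) := by rw [h1]
    rw [← mul_assoc, ← mul_assoc, ← mul_pow] at h3
    simpa using h3.symm

lemma ps_unique' {f : PowerSeries R} (hf : constantCoeff f = 1) (c : ℕ → R)
    (hc : PowerSeries.mk (fun k => (-1) ^ k * c k) * f = PowerSeries.derivative R f) (k : ℕ) :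
    c k = ps f k := by
  have h0 : (PowerSeries.derivative R f * f.invOfUnit 1) * f = PowerSeries.derivative R f := by
    rw [mul_assoc, mul_comm (f.invOfUnit 1), mul_inv hf, mul_one]
  rw [← h0] at hc
  have h1 := (isUnit_of hf).mul_right_cancel hc
  have h2 := congrArg (PowerSeries.coeff k) h1
  rw [coeff_mk] at h2
  rw [ps, ← h2, ← mul_assoc, ← mul_pow]
  simp

lemma mk_ps_mul {f : PowerSeries R} (hf : constantCoeff f = 1) :
    PowerSeries.mk (fun k => (-1) ^ k * ps f k) * f = PowerSeries.derivative R f := by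
  have h0 : (PowerSeries.derivative R f * f.invOfUnit 1) * f = PowerSeries.derivative R f := by
    rw [mul_assoc, mul_comm (f.invOfUnit 1), mul_inv hf, mul_one]
  rw [← h0]
  congr 1
  ext k
  rw [coeff_mk, ps_def]

lemma ps_mul {f g : PowerSeries R} (hf : constantCoeff f = 1) (hg : constantCoeff g = 1) (k : ℕ) :
    ps (f * g) k = ps f k + ps g k := by
  symm
  apply ps_unique' (by rw [map_mul, hf, hg, one_mul]) (fun k => ps f k + ps g k)
  have h1 := mk_ps_mul hf
  have h2 := mk_ps_mul hg
  have h3 : PowerSeries.mk (fun k => (-1) ^ k * (ps f k + ps g k)) =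
      PowerSeries.mk (fun k => (-1) ^ k * ps f k) + PowerSeries.mk (fun k => (-1) ^ k * ps g k) := by
    ext k
    rw [map_add, coeff_mk, coeff_mk, coeff_mk, mul_add]
  rw [h3, Derivation.leibniz, smul_eq_mul, smul_eq_mul, ← h1, ← h2]
  ring

lemma ps_one (k : ℕ) : ps (1 : PowerSeries R) k = 0 := by
  symm
  apply ps_unique' (by simp) (fun _ => 0)
  ext k
  rw [mul_one]
  simp

lemma constantCoeff_prod {ι : Type*} (s : Finset ι) (f : ι → PowerSeries R)
    (hf : ∀ i ∈ s, constantCoeff (f i) = 1) : constantCoeff (∏ i ∈ s, f i) = 1 := by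
  rw [map_prod]
  exact Finset.prod_eq_one hf

lemma ps_prod {ι : Type*} (s : Finset ι) (f : ι → PowerSeries R)
    (hf : ∀ i ∈ s, constantCoeff (f i) = 1) (k : ℕ) :
    ps (∏ i ∈ s, f i) k = ∑ i ∈ s, ps (f i) k := by
  classical
  induction s using Finset.induction_on with
  | empty => simp [ps_one]
  | insert a s ha ih =>
    have hs : ∀ i ∈ s, constantCoeff (f i) = 1 := fun i hi => hf i (Finset.mem_insert_of_mem hi)
    rw [Finset.prod_insert ha, Finset.sum_insert ha,
      ps_mul (hf a (Finset.mem_insert_self _ _)) (constantCoeff_prod s f hs), ih hs]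

lemma constantCoeff_linear (a : R) : constantCoeff (1 + PowerSeries.C a * X : PowerSeries R) = 1 := by
  simp

lemma ps_linear (a : R) (k : ℕ) : ps (1 + PowerSeries.C a * X) k = a ^ (k + 1) := by
  symm
  apply ps_unique' (constantCoeff_linear a) (fun k => a ^ (k + 1))
  ext n
  rw [mul_add, mul_one, map_add, coeff_mk, mul_comm (PowerSeries.C a), ← mul_assoc]
  rw [coeff_derivative, map_add]
  rcases n with _ | n
  · rw [coeff_mul_C, coeff_zero_mul_X]
    simp [coeff_one]
  · rw [coeff_mul_C, coeff_succ_mul_X, coeff_mk, coeff_one, if_neg (by omega), coeff_mul_C,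
      coeff_X, if_neg (by omega)]
    ring

lemma ps_prod_linear {ι : Type*} (s : Finset ι) (a : ι → R) (k : ℕ) :
    ps (∏ i ∈ s, (1 + PowerSeries.C (a i) * X)) k = ∑ i ∈ s, a i ^ (k + 1) := by
  rw [ps_prod s _ (fun i _ => constantCoeff_linear (a i))]
  exact Finset.sum_congr rfl (fun i _ => ps_linear (a i) k)

lemma constantCoeff_prod_linear {ι : Type*} (s : Finset ι) (a : ι → R) :
    constantCoeff (∏ i ∈ s, (1 + PowerSeries.C (a i) * X : PowerSeries R)) = 1 :=
  constantCoeff_prod s _ (fun i _ => constantCoeff_linear (a i))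

lemma constantCoeff_map {S : Type v} [CommRing S] (φ : R →+* S) {f : PowerSeries R}
    (hf : constantCoeff f = 1) : constantCoeff (PowerSeries.map φ f) = 1 := by
  rw [← coeff_zero_eq_constantCoeff_apply, coeff_map, coeff_zero_of hf, map_one]

lemma ps_map {S : Type v} [CommRing S] (φ : R →+* S) {f : PowerSeries R}
    (hf : constantCoeff f = 1) (k : ℕ) : ps (PowerSeries.map φ f) k = φ (ps f k) := by
  symm
  refine ps_unique (constantCoeff_map φ hf) (fun k => φ (ps f k)) (k + 1) ?_ k (by omega)
  intro n _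
  have h := congrArg φ (newton hf n)
  rw [map_mul, map_sum] at h
  rw [coeff_map]
  simp only [map_add, map_one, map_natCast] at h
  rw [h]
  apply Finset.sum_congr rfl
  intro ij _
  rw [map_mul, map_mul, map_pow, map_neg, map_one, coeff_map]

/-- the power sums up to `n` only depend on the coefficients up to `n` -/
lemma ps_congr {f g : PowerSeries R} (hf : constantCoeff f = 1) (hg : constantCoeff g = 1) (n : ℕ)
    (h : ∀ i ≤ n, coeff i f = coeff i g) : ∀ k < n, ps f k = ps g k := by
  refine ps_unique hg (ps f) n ?_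
  intro m hm
  rw [← h (m + 1) (by omega), newton hf]
  apply Finset.sum_congr rfl
  intro ij hij
  have := Finset.mem_antidiagonal.mp hij
  rw [h ij.2 (by omega)]

/-- in the absence of torsion the coefficients up to `n` only depend on the power sums -/
lemma coeff_congr (htf : ∀ (n : ℕ) (x : R), ((n : R) + 1) * x = 0 → x = 0)
    {f g : PowerSeries R} (hf : constantCoeff f = 1) (hg : constantCoeff g = 1) (n : ℕ)
    (h : ∀ k < n, ps f k = ps g k) : ∀ i ≤ n, coeff i f = coeff i g := by
  intro i
  induction i using Nat.strong_induction_on with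
  | _ i ih =>
    intro hi
    rcases i with _ | i
    · rw [coeff_zero_of hf, coeff_zero_of hg]
    · have h1 := newton hf i
      have h2 := newton hg i
      rw [← sub_eq_zero]
      apply htf i
      rw [mul_sub, h1, h2, sub_eq_zero]
      apply Finset.sum_congr rfl
      intro ij hij
      have := Finset.mem_antidiagonal.mp hij
      rw [h _ (by omega), ih _ (by omega) (by omega)]

lemma ext_of_ps (htf : ∀ (n : ℕ) (x : R), ((n : R) + 1) * x = 0 → x = 0)
    {f g : PowerSeries R} (hf : constantCoeff f = 1) (hg : constantCoeff g = 1)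
    (h : ∀ k, ps f k = ps g k) : f = g := by
  ext i
  exact coeff_congr htf hf hg i (fun k _ => h k) i le_rfl

end ring

section rat

variable {R : Type u} [CommRing R] [Algebra ℚ R]

lemma torsionFree_of_rat (n : ℕ) (x : R) (h : ((n : R) + 1) * x = 0) : x = 0 := by
  have h1 : ((n : R) + 1) = algebraMap ℚ R ((n : ℚ) + 1) := by simp
  have h2 : algebraMap ℚ R (((n : ℚ) + 1)⁻¹) * algebraMap ℚ R ((n : ℚ) + 1) = 1 := by
    rw [← map_mul, inv_mul_cancel₀ (by positivity), map_one]
  rw [h1] at h
  calc x = (algebraMap ℚ R (((n : ℚ) + 1)⁻¹) * algebraMap ℚ R ((n : ℚ) + 1)) * x := by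
        rw [h2, one_mul]
    _ = algebraMap ℚ R (((n : ℚ) + 1)⁻¹) * (algebraMap ℚ R ((n : ℚ) + 1) * x) := by ring
    _ = 0 := by rw [h, mul_zero]

/-- the coefficients of the power series with given power sums -/
noncomputable def cf (c : ℕ → R) : ℕ → R
  | 0 => 1
  | n + 1 => algebraMap ℚ R (((n : ℚ) + 1)⁻¹) *
      ∑ i : Fin (n + 1), (-1) ^ (i : ℕ) * c i * cf c (n - i)
  decreasing_by omega

lemma cf_zero (c : ℕ → R) : cf c 0 = 1 := by rw [cf]

lemma cf_succ (c : ℕ → R) (n : ℕ) : ((n : R) + 1) * cf c (n + 1) =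
    ∑ ij ∈ antidiagonal n, (-1) ^ ij.1 * c ij.1 * cf c ij.2 := by
  have h1 : ((n : R) + 1) = algebraMap ℚ R ((n : ℚ) + 1) := by simp
  rw [cf, ← mul_assoc, h1, ← map_mul, mul_inv_cancel₀ (by positivity), map_one, one_mul,
    Finset.Nat.sum_antidiagonal_eq_sum_range_succ_mk,
    Fin.sum_univ_eq_sum_range (fun i => (-1) ^ i * c i * cf c (n - i)) (n + 1)]

/-- the power series with constant term one and given power sums -/
noncomputable def ofPs (c : ℕ → R) : PowerSeries R := PowerSeries.mk (cf c)

@[simp]
lemma constantCoeff_ofPs (c : ℕ → R) : constantCoeff (ofPs c) = 1 := by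
  rw [← coeff_zero_eq_constantCoeff_apply, ofPs, coeff_mk, cf_zero]

lemma ps_ofPs (c : ℕ → R) (k : ℕ) : ps (ofPs c) k = c k := by
  symm
  refine ps_unique (constantCoeff_ofPs c) c (k + 1) ?_ k (by omega)
  intro n _
  simp only [ofPs, coeff_mk]
  exact cf_succ c n

lemma eq_ofPs {f : PowerSeries R} (hf : constantCoeff f = 1) (c : ℕ → R)
    (h : ∀ k, ps f k = c k) : f = ofPs c :=
  ext_of_ps torsionFree_of_rat hf (constantCoeff_ofPs c) (fun k => by rw [h, ps_ofPs])

lemma map_ofPs {S : Type v} [CommRing S] [Algebra ℚ S] (φ : R →+* S) (c : ℕ → R) :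
    PowerSeries.map φ (ofPs c) = ofPs (fun k => φ (c k)) := by
  apply eq_ofPs (constantCoeff_map φ (constantCoeff_ofPs c))
  intro k
  rw [ps_map φ (constantCoeff_ofPs c), ps_ofPs]

lemma ofPs_add (c d : ℕ → R) : ofPs (fun k => c k + d k) = ofPs c * ofPs d := by
  symm
  apply eq_ofPs (by rw [map_mul, constantCoeff_ofPs, constantCoeff_ofPs, one_mul])
  intro k
  rw [ps_mul (constantCoeff_ofPs c) (constantCoeff_ofPs d), ps_ofPs, ps_ofPs]

end rat

end K536.PowerSum
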