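import Groth.Agent.LambdaRing.K536.UnivComp

/-!
# `IsSpecial` for algebras over the rationals, descent along injective lambda-homomorphisms
-/

set_option autoImplicit false
universe u v

open Finset LambdaRing

namespace K536.RatSpecial

open K536.Basic K536.PowerSum K536.SymmInj K536.UnivPoly K536.UnivComp K536.Newton
  Groth.Agent.Books.Lambda1

/-- a pre-lambda-ring over the rationals whose Adams operations are ring homomorphisms with
`ψ^k ψ^l = ψ^(kl)` is a lambda-ring in the strict sense -/
theorem isSpecial_of_adamsOp (K : Type u) [CommRing K] [LambdaOps K] [Algebra ℚ K]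
    (h1 : ∀ k : ℕ, 1 ≤ k → adamsOp k (1 : K) = 1)
    (hmul : ∀ k : ℕ, 1 ≤ k → ∀ x y : K, adamsOp k (x * y) = adamsOp k x * adamsOp k y)
    (hcomp : ∀ k k' : ℕ, 1 ≤ k → 1 ≤ k' → ∀ x : K,
      adamsOp k (adamsOp k' x) = adamsOp (k * k') x) :
    IsSpecial K := by
  have hps : ∀ (k : ℕ) (x : K), ps (lamSeries x) k = adamsOp (k + 1) x := fun _ _ => rfl
  refine ⟨?_, ?_, ?_⟩
  · have h2 : lamSeries (1 : K) = 1 + PowerSeries.C 1 * PowerSeries.X := by
      apply ext_of_ps torsionFree_of_rat (constantCoeff_lamSeries _) (constantCoeff_linear _)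
      intro k
      rw [hps, h1 _ (by omega), ps_linear, one_pow]
    intro n hn
    rw [← coeff_lamSeries, h2, map_one, one_mul, map_add, PowerSeries.coeff_one,
      PowerSeries.coeff_X, if_neg (by omega), if_neg (by omega), add_zero]
  · intro n P hP x y
    have h2 := mul_core (constantCoeff_lamSeries x) (constantCoeff_lamSeries y)
      (constantCoeff_lamSeries (x * y)) n (fun k _ => by
        rw [hps, hps, hps, hmul _ (by omega)]) hP
    simpa only [coeff_lamSeries] using h2
  · intro i j Q hQ x
    let ψ : ℕ → K →+* K := fun k =>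
      { toFun := adamsOp (k + 1)
        map_one' := h1 _ (by omega)
        map_mul' := hmul _ (by omega)
        map_zero' := adamsOp_map_zero _
        map_add' := adamsOp_add _ }
    have hψ : ∀ k y, ψ k y = adamsOp (k + 1) y := fun _ _ => rfl
    have hhom : ∀ k, IsLamHom (ψ k) := by
      intro k
      apply isLamHom_of_adamsOp torsionFree_of_rat
      intro l hl y
      rw [hψ, hψ, hcomp _ _ (by omega) hl, hcomp _ _ hl (by omega), mul_comm]
    have h2 := comp_core (f := lamSeries x) (h := lamSeries (LambdaOps.lam i x))
      (g := fun k => lamSeries (adamsOp (k + 1) x))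
      (constantCoeff_lamSeries x) (constantCoeff_lamSeries _) (fun k => constantCoeff_lamSeries _)
      i j (fun k _ l _ => by
        rw [hps, hps, hcomp _ _ (by omega) (by omega)]
        congr 1
        have : 0 < (k + 1) * (l + 1) := by positivity
        rw [mul_comm (l + 1)]
        omega) (fun k _ => by
        rw [hps, coeff_lamSeries, ← hψ, ← hψ, hhom k i x]) hQ
    simpa only [coeff_lamSeries] using h2

/-- descent of the strict lambda-ring property along injective lambda-homomorphisms -/
theorem isSpecial_of_injective {K : Type u} {K' : Type v} [CommRing K] [LambdaOps K]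
    [CommRing K'] [LambdaOps K'] (f : K →+* K') (hinj : Function.Injective f)
    (hf : ∀ (n : ℕ) (x : K), f (LambdaOps.lam n x) = LambdaOps.lam n (f x))
    (hK' : IsSpecial K') : IsSpecial K := by
  refine ⟨?_, ?_, ?_⟩
  · intro n hn
    apply hinj
    rw [hf, map_one, map_zero]
    exact hK'.lam_one_eq_zero n hn
  · intro n P hP x y
    apply hinj
    rw [hf, map_mul, hK'.lam_mul n P hP, MvPolynomial.map_aeval, MvPolynomial.aeval_def,
      MvPolynomial.coe_eval₂Hom]
    congr 1
    · exact Subsingleton.elim _ _
    · funext k
      rcases k with k | k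
      · simp [hf]
      · simp [hf]
  · intro i j Q hQ x
    apply hinj
    rw [hf, hf, hK'.lam_lam i j Q hQ, MvPolynomial.map_aeval, MvPolynomial.aeval_def,
      MvPolynomial.coe_eval₂Hom]
    congr 1
    · exact Subsingleton.elim _ _
    · funext k
      simp [hf]

end K536.RatSpecial
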