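import Mathlib.RingTheory.MvPolynomial.Symmetric.FundamentalTheorem
import Mathlib.RingTheory.MvPolynomial.WeightedHomogeneous
import Mathlib.FieldTheory.Finite.Polynomial
import Mathlib.Algebra.MvPolynomial.Equiv

/-!
# Substituting elementary symmetric polynomials: injectivity, saturation, homogeneity
-/

set_option autoImplicit false
universe u v

open Finset MvPolynomial

namespace K536.SymmInj

section inj

variable (R : Type u) [CommRing R]

/-- the variable `k` is sent to the `(k+1)`-st elementary symmetric polynomial in `N` variables -/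
noncomputable def iota1 (n N : ℕ) : MvPolynomial (Fin n) R →ₐ[R] MvPolynomial (Fin N) R :=
  aeval (fun k : Fin n => esymm (Fin N) R ((k : ℕ) + 1))

lemma iota1_injective {n N : ℕ} (h : n ≤ N) : Function.Injective (iota1 R n N) := by
  intro p q hpq
  apply esymmAlgHom_injective (σ := Fin N) R (n := n) (by simpa using h)
  apply Subtype.ext
  exact ((esymmAlgHom_apply (σ := Fin N) p).trans hpq).trans (esymmAlgHom_apply (σ := Fin N) q).symm

/-- two families of variables -/
noncomputable def iota2 (n m N M : ℕ) :
    MvPolynomial (Fin n ⊕ Fin m) R →ₐ[R] MvPolynomial (Fin N ⊕ Fin M) R :=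
  aeval (Sum.elim (fun k : Fin n => rename Sum.inl (esymm (Fin N) R ((k : ℕ) + 1)))
    (fun k : Fin m => rename Sum.inr (esymm (Fin M) R ((k : ℕ) + 1))))

lemma iota2_injective {n m N M : ℕ} (h : n ≤ N) (h' : m ≤ M) :
    Function.Injective (iota2 R n m N M) := by
  have key : (sumAlgEquiv R (Fin N) (Fin M)).toAlgHom.comp (iota2 R n m N M) =
      ((iota1 (MvPolynomial (Fin M) R) n N).restrictScalars R).comp
        ((MvPolynomial.mapAlgHom (iota1 R m M)).comp
          (sumAlgEquiv R (Fin n) (Fin m)).toAlgHom) := by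
    apply MvPolynomial.algHom_ext
    rintro (k | k)
    · have h1 := DFunLike.congr_fun (sumAlgEquiv_comp_rename_inl (R := R) (S₁ := Fin N)
        (S₂ := Fin M)) (esymm (Fin N) R ((k : ℕ) + 1))
      have h2 : (MvPolynomial.mapAlgHom (σ := Fin N) (Algebra.ofId R (MvPolynomial (Fin M) R)))
          (esymm (Fin N) R ((k : ℕ) + 1)) = esymm (Fin N) (MvPolynomial (Fin M) R) ((k : ℕ) + 1) :=
        MvPolynomial.map_esymm _ _ _ _
      rw [h2] at h1
      simp only [AlgHom.comp_apply] at h1
      simp only [AlgHom.comp_apply, iota2, aeval_X, Sum.elim_inl]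
      rw [h1]
      simp [iota1]
    · have h1 := DFunLike.congr_fun (sumAlgEquiv_comp_rename_inr (R := R) (S₁ := Fin N)
        (S₂ := Fin M)) (esymm (Fin M) R ((k : ℕ) + 1))
      simp only [AlgHom.comp_apply] at h1
      simp only [AlgHom.comp_apply, iota2, aeval_X, Sum.elim_inr]
      rw [h1]
      simp [iota1, MvPolynomial.algebraMap_eq]
  have hinj : Function.Injective ((sumAlgEquiv R (Fin N) (Fin M)).toAlgHom.comp
      (iota2 R n m N M)) := by
    rw [key]
    intro p q hpq
    apply (sumAlgEquiv R (Fin n) (Fin m)).injective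
    apply MvPolynomial.map_injective (iota1 R m M).toRingHom (iota1_injective R h')
    apply iota1_injective (MvPolynomial (Fin M) R) h
    exact hpq
  intro p q hpq
  apply hinj
  simp only [AlgHom.comp_apply, hpq]

end inj

section sat

variable {σ τ : Type} (g : σ → MvPolynomial τ ℤ)

/-- base change to `R` of the substitution `X k ↦ g k` -/
noncomputable def sub (R : Type) [CommRing R] : MvPolynomial σ R →ₐ[R] MvPolynomial τ R :=
  aeval (fun k => map (Int.castRingHom R) (g k))

lemma sub_map (R : Type) [CommRing R] (p : MvPolynomial σ ℤ) :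
    sub g R (map (Int.castRingHom R) p) = map (Int.castRingHom R) (sub g ℤ p) := by
  induction p using MvPolynomial.induction_on with
  | C a => simp [sub]
  | add p q hp hq => rw [map_add, map_add, map_add, map_add, hp, hq]
  | mul_X p i hp =>
    rw [map_mul, map_mul, map_mul, map_mul, hp]
    congr 1
    rw [map_X, sub, sub, aeval_X, aeval_X, MvPolynomial.map_map]
    congr 1

lemma clear_denominators (q : MvPolynomial σ ℚ) : ∃ (d : ℕ) (Q : MvPolynomial σ ℤ), d ≠ 0 ∧
    map (Int.castRingHom ℚ) Q = (d : ℚ) • q := by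
  induction q using MvPolynomial.induction_on with
  | C a =>
    refine ⟨a.den, C a.num, a.den_ne_zero, ?_⟩
    rw [map_C, smul_eq_C_mul, ← C_mul]
    congr 1
    simp only [eq_intCast]
    rw [mul_comm]
    exact (Rat.mul_den_eq_num a).symm
  | add p q hp hq =>
    obtain ⟨d, P, hd, hP⟩ := hp
    obtain ⟨e, Q, he, hQ⟩ := hq
    refine ⟨d * e, C (e : ℤ) * P + C (d : ℤ) * Q, mul_ne_zero hd he, ?_⟩
    rw [map_add, map_mul, map_mul, hP, hQ, map_C, map_C, smul_add, smul_eq_C_mul, smul_eq_C_mul,
      smul_eq_C_mul, smul_eq_C_mul]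
    push_cast
    rw [C_mul]
    simp only [eq_intCast, Int.cast_natCast]
    ring
  | mul_X p i hp =>
    obtain ⟨d, P, hd, hP⟩ := hp
    refine ⟨d, P * X i, hd, ?_⟩
    rw [map_mul, hP, map_X, smul_mul_assoc]

/-- a rational polynomial whose substitution is integral is itself integral -/
lemma saturated (hg : ∀ d : ℕ, Function.Injective (sub g (ZMod d))) (q : MvPolynomial σ ℚ)
    (p : MvPolynomial τ ℤ) (h : sub g ℚ q = map (Int.castRingHom ℚ) p) :
    ∃ P : MvPolynomial σ ℤ, map (Int.castRingHom ℚ) P = q ∧ sub g ℤ P = p := by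
  obtain ⟨d, Q, hd, hQ⟩ := clear_denominators q
  have hinj : Function.Injective (map (σ := τ) (Int.castRingHom ℚ)) :=
    MvPolynomial.map_injective _ Int.cast_injective
  have h1 : sub g ℤ Q = C (d : ℤ) * p := by
    apply hinj
    rw [← sub_map, hQ, map_smul, h, map_mul, map_C, smul_eq_C_mul]
    simp
  have h2 : map (Int.castRingHom (ZMod d)) Q = 0 := by
    apply hg d
    rw [sub_map, h1, map_mul, map_C, map_zero]
    simp
  rw [← C_dvd_iff_zmod] at h2
  obtain ⟨P, hP⟩ := h2
  have hd' : (d : ℚ) ≠ 0 := by exact_mod_cast hd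
  refine ⟨P, ?_, ?_⟩
  · rw [hP, map_mul, map_C, smul_eq_C_mul] at hQ
    have h3 : (C ((d : ℚ)) : MvPolynomial σ ℚ) ≠ 0 := by
      rw [Ne, C_eq_zero]; exact hd'
    apply mul_left_cancel₀ h3
    simpa using hQ
  · rw [hP, map_mul] at h1
    have h4 : sub g ℤ (C (d : ℤ)) = C (d : ℤ) := by simp [sub]
    rw [h4] at h1
    have h3 : (C ((d : ℤ)) : MvPolynomial τ ℤ) ≠ 0 := by
      rw [Ne, C_eq_zero]; exact_mod_cast hd
    exact mul_left_cancel₀ h3 h1

end sat

section homog

variable {σ τ : Type*} {R : Type*} [CommRing R] {M : Type*} [AddCommMonoid M]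
  (w : σ → M) (w' : τ → M) (φ : MvPolynomial σ R →ₐ[R] MvPolynomial τ R)

lemma homog_monomial (hφ : ∀ k, IsWeightedHomogeneous w' (φ (X k)) (w k)) (d : σ →₀ ℕ) (r : R) :
    IsWeightedHomogeneous w' (φ (monomial d r)) (Finsupp.weight w d) := by
  rw [monomial_eq, map_mul]
  have h1 : φ (C r) = C r := by
    rw [← MvPolynomial.algebraMap_eq, ← MvPolynomial.algebraMap_eq, AlgHom.commutes]
  rw [h1]
  apply IsWeightedHomogeneous.C_mul
  rw [Finsupp.prod, map_prod, Finsupp.weight_apply, Finsupp.sum]
  apply IsWeightedHomogeneous.prod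
  intro i _
  rw [map_pow]
  exact (hφ i).pow _

lemma component_comm (hφ : ∀ k, IsWeightedHomogeneous w' (φ (X k)) (w k)) (m : M)
    (q : MvPolynomial σ R) :
    weightedHomogeneousComponent w' m (φ q) = φ (weightedHomogeneousComponent w m q) := by
  classical
  induction q using MvPolynomial.induction_on' with
  | monomial d r =>
    have h1 := homog_monomial w w' φ hφ d r
    have h2 : IsWeightedHomogeneous w (monomial d r) (Finsupp.weight w d) :=
      isWeightedHomogeneous_monomial w d r rfl
    by_cases h : m = Finsupp.weight w d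
    · rw [h, weightedHomogeneousComponent_eq_self h1, weightedHomogeneousComponent_eq_self h2]
    · rw [h1.weightedHomogeneousComponent_ne m h, h2.weightedHomogeneousComponent_ne m h, map_zero]
  | add p q hp hq => rw [map_add, map_add, map_add, map_add, hp, hq]

/-- an injective weight preserving substitution reflects homogeneity -/
lemma homog_of_injective (hφ : ∀ k, IsWeightedHomogeneous w' (φ (X k)) (w k))
    (hinj : Function.Injective φ) (m : M) (q : MvPolynomial σ R)
    (hq : IsWeightedHomogeneous w' (φ q) m) : IsWeightedHomogeneous w q m := by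
  classical
  intro d hd
  by_contra hne
  have h1 : weightedHomogeneousComponent w (Finsupp.weight w d) q = 0 := by
    apply hinj
    rw [map_zero, ← component_comm w w' φ hφ]
    exact hq.weightedHomogeneousComponent_ne _ hne
  have h2 := congrArg (coeff d) h1
  rw [coeff_weightedHomogeneousComponent, if_pos rfl, coeff_zero] at h2
  exact hd h2

end homog

end K536.SymmInj
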