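import Groth.Agent.LambdaRing.K536.UnivPoly

/-!
# The universal polynomials `Q_{i,j}`
-/

set_option autoImplicit false
universe u v

open Finset LambdaRing

namespace K536.UnivComp

open K536.Basic K536.PowerSum K536.SymmInj K536.UnivPoly

/-- the substitution of elementary symmetric polynomials into `Q_{i,j}` -/
noncomputable def gcomp (N : ℕ) : Fin N → MvPolynomial (Fin N) ℤ :=
  fun k => MvPolynomial.esymm (Fin N) ℤ ((k : ℕ) + 1)

lemma sub_gcomp (R : Type) [CommRing R] (N : ℕ) : sub (gcomp N) R = iota1 R N N := by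
  rw [sub, iota1]
  congr 1
  funext k
  rw [gcomp, MvPolynomial.map_esymm]

/-- the universal series over `ℚ` -/
noncomputable def Fc (N : ℕ) : PowerSeries (MvPolynomial (Fin N) ℚ) :=
  gser N (fun k => MvPolynomial.X k)

lemma constantCoeff_Fc (N : ℕ) : PowerSeries.constantCoeff (Fc N) = 1 := constantCoeff_gser _ _

/-- the universal series with power sums `p_((k+1)(l+1))` -/
noncomputable def Gc (N k : ℕ) : PowerSeries (MvPolynomial (Fin N) ℚ) :=
  ofPs (fun l => ps (Fc N) ((k + 1) * (l + 1) - 1))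

lemma constantCoeff_Gc (N k : ℕ) : PowerSeries.constantCoeff (Gc N k) = 1 := constantCoeff_ofPs _

lemma ps_Gc (N k l : ℕ) : ps (Gc N k) l = ps (Fc N) ((k + 1) * (l + 1) - 1) := ps_ofPs _ l

/-- the universal series of the exterior power `λ^i` -/
noncomputable def Hc (N i : ℕ) : PowerSeries (MvPolynomial (Fin N) ℚ) :=
  ofPs (fun k => PowerSeries.coeff i (Gc N k))

lemma constantCoeff_Hc (N i : ℕ) : PowerSeries.constantCoeff (Hc N i) = 1 := constantCoeff_ofPs _

lemma ps_Hc (N i k : ℕ) : ps (Hc N i) k = PowerSeries.coeff i (Gc N k) := ps_ofPs _ k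

lemma esymm_eq_es (R : Type) [CommRing R] (N k : ℕ) :
    MvPolynomial.esymm (Fin N) R k =
      es (fun a : Fin N => (MvPolynomial.X a : MvPolynomial (Fin N) R)) k := rfl

lemma iota1_Fc (N : ℕ) : PowerSeries.map (iota1 ℚ N N :
    MvPolynomial (Fin N) ℚ →+* MvPolynomial (Fin N) ℚ) (Fc N) =
    ∏ a : Fin N, (1 + PowerSeries.C (MvPolynomial.X a) * PowerSeries.X) := by
  rw [Fc, map_gser, prod_linear_eq_gser]
  congr 1
  funext k
  rw [← esymm_eq_es]
  simp [iota1]

lemma iota1_Gc (N k : ℕ) : PowerSeries.map (iota1 ℚ N N :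
    MvPolynomial (Fin N) ℚ →+* MvPolynomial (Fin N) ℚ) (Gc N k) =
    ∏ a : Fin N, (1 + PowerSeries.C (MvPolynomial.X a ^ (k + 1)) * PowerSeries.X) := by
  apply ext_of_ps torsionFree_of_rat (constantCoeff_map _ (constantCoeff_Gc _ _))
    (constantCoeff_prod_linear _ _)
  intro l
  rw [ps_map _ (constantCoeff_Gc _ _), ps_Gc, ← ps_map _ (constantCoeff_Fc _), iota1_Fc,
    ps_prod_linear, ps_prod_linear]
  apply Finset.sum_congr rfl
  intro a _
  have h : (k + 1) * (l + 1) - 1 + 1 = (k + 1) * (l + 1) := by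
    have : 0 < (k + 1) * (l + 1) := by positivity
    omega
  rw [h, pow_mul]

/-- products over the `i`-element subsets -/
noncomputable def subFam {R : Type*} [CommRing R] {ι : Type*} [Fintype ι] (T : ι → R) (i : ℕ)
    (s : {s : Finset ι // s ∈ (univ : Finset ι).powersetCard i}) : R := ∏ a ∈ s.1, T a

lemma es_pow {R : Type*} [CommRing R] {ι : Type*} [Fintype ι] [DecidableEq ι] (T : ι → R)
    (i k : ℕ) : es (fun a => T a ^ k) i = ∑ s, subFam T i s ^ k := by
  rw [es, ← Finset.sum_coe_sort]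
  apply Finset.sum_congr rfl
  intro s _
  rw [subFam, Finset.prod_pow]

lemma es_subFam {R : Type*} [CommRing R] {ι : Type*} [Fintype ι] [DecidableEq ι] (T : ι → R)
    (i j : ℕ) : es (subFam T i) j =
      (((univ : Finset ι).powersetCard i).val.map (fun s => ∏ a ∈ s, T a)).esymm j := by
  have h1 : (((univ : Finset ι).powersetCard i).val.map (fun s => ∏ a ∈ s, T a)) =
      ((univ : Finset {s : Finset ι // s ∈ (univ : Finset ι).powersetCard i}).val.map
        (subFam T i)) := by
    have h2 : subFam T i = (fun s : Finset ι => ∏ a ∈ s, T a) ∘ Subtype.val := rfl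
    rw [h2, ← Multiset.map_map]
    congr 1
    change _ = (Finset.univ.map (Function.Embedding.subtype _)).val
    congr 1
    exact (Finset.attach_map_val (s := (univ : Finset ι).powersetCard i)).symm
  rw [h1, Finset.esymm_map_val, es]

lemma iota1_Hc (N i : ℕ) : PowerSeries.map (iota1 ℚ N N :
    MvPolynomial (Fin N) ℚ →+* MvPolynomial (Fin N) ℚ) (Hc N i) =
    ∏ s, (1 + PowerSeries.C (subFam (fun a : Fin N => (MvPolynomial.X a : MvPolynomial (Fin N) ℚ))
      i s) * PowerSeries.X) := by
  apply ext_of_ps torsionFree_of_rat (constantCoeff_map _ (constantCoeff_Hc _ _))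
    (constantCoeff_prod_linear _ _)
  intro k
  rw [ps_map _ (constantCoeff_Hc _ _), ps_Hc, ps_prod_linear, ← es_pow]
  have h1 := congrArg (PowerSeries.coeff i) (iota1_Gc N k)
  rw [PowerSeries.coeff_map, coeff_prod_linear] at h1
  exact h1

lemma map_compGen (R : Type) [CommRing R] (N i j : ℕ) :
    MvPolynomial.map (Int.castRingHom R) (compGen N i j) =
      es (subFam (fun a : Fin N => (MvPolynomial.X a : MvPolynomial (Fin N) R)) i) j := by
  have h : compGen N i j =
      es (subFam (fun a : Fin N => (MvPolynomial.X a : MvPolynomial (Fin N) ℤ)) i) j := by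
    rw [es_subFam]; rfl
  rw [h, map_es]
  congr 1
  funext s
  rw [subFam, subFam, map_prod]
  exact Finset.prod_congr rfl (fun a _ => MvPolynomial.map_X _ _)

lemma compGen_eq (N i j : ℕ) : compGen N i j =
      es (subFam (fun a : Fin N => (MvPolynomial.X a : MvPolynomial (Fin N) ℤ)) i) j := by
  rw [es_subFam]; rfl

lemma iota1_coeff_Hc (N i j : ℕ) : iota1 ℚ N N (PowerSeries.coeff j (Hc N i)) =
    MvPolynomial.map (Int.castRingHom ℚ) (compGen N i j) := by
  rw [map_compGen, ← coeff_prod_linear, ← iota1_Hc, PowerSeries.coeff_map]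
  rfl

/-- existence of the universal polynomials `Q_{i,j}` -/
theorem exists_isCompPoly (i j : ℕ) : ∃ Q : MvPolynomial (Fin (i * j)) ℤ, IsCompPoly i j Q := by
  have h1 : sub (gcomp (i * j)) ℚ (PowerSeries.coeff j (Hc (i * j) i)) =
      MvPolynomial.map (Int.castRingHom ℚ) (compGen (i * j) i j) := by
    rw [sub_gcomp, iota1_coeff_Hc]
  obtain ⟨Q, -, hQ⟩ := saturated (gcomp (i * j)) (fun d => by
    rw [sub_gcomp]; exact iota1_injective _ le_rfl) _ _ h1
  rw [sub_gcomp] at hQ
  refine ⟨Q, hQ, ?_⟩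
  refine homog_of_injective _ (fun _ => (1 : ℕ))
    (iota1 ℤ (i * j) (i * j)) ?_ (iota1_injective _ le_rfl) _ _ ?_
  · intro k
    rw [iota1, MvPolynomial.aeval_X, esymm_eq_es]
    have h2 := isWeightedHomogeneous_es (R := ℤ) (fun _ : Fin (i * j) => (1 : ℕ))
        (fun a : Fin (i * j) => (MvPolynomial.X a : MvPolynomial (Fin (i * j)) ℤ)) 1
        (fun a => MvPolynomial.isWeightedHomogeneous_X _ _ _) ((k : ℕ) + 1)
    simpa using h2
  · rw [hQ, compGen_eq]
    have h2 := isWeightedHomogeneous_es (R := ℤ) (fun _ : Fin (i * j) => (1 : ℕ))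
        (subFam (fun a : Fin (i * j) => (MvPolynomial.X a : MvPolynomial (Fin (i * j)) ℤ)) i) i
        (fun s => by
          have h3 := MvPolynomial.IsWeightedHomogeneous.prod s.1
            (fun a : Fin (i * j) => (MvPolynomial.X a : MvPolynomial (Fin (i * j)) ℤ))
            (fun _ => (1 : ℕ)) (w := fun _ : Fin (i * j) => (1 : ℕ))
            (fun a _ => MvPolynomial.isWeightedHomogeneous_X _ _ _)
          rw [Finset.sum_const, (Finset.mem_powersetCard.mp s.2).2, smul_eq_mul, mul_one] at h3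
          exact h3) j
    have e : j • i = i * j := by rw [smul_eq_mul, mul_comm]
    rw [e] at h2
    exact h2

lemma coeff_Hc_eq {i j : ℕ} {Q : MvPolynomial (Fin (i * j)) ℤ} (hQ : IsCompPoly i j Q) :
    PowerSeries.coeff j (Hc (i * j) i) = MvPolynomial.map (Int.castRingHom ℚ) Q := by
  apply iota1_injective ℚ (le_refl (i * j))
  rw [iota1_coeff_Hc, ← sub_gcomp, sub_map, sub_gcomp]
  congr 1
  exact hQ.1.symm

lemma isCompPoly_unique {i j : ℕ} {Q Q' : MvPolynomial (Fin (i * j)) ℤ} (hQ : IsCompPoly i j Q)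
    (hQ' : IsCompPoly i j Q') : Q = Q' :=
  iota1_injective ℤ (le_refl (i * j)) (hQ.1.trans hQ'.1.symm)

/-- the universal polynomial `Q_{i,j}` computes the coefficients of a series whose `k`-th power sum
is the `i`-th coefficient of the series with power sums `p_(kl)` -/
theorem comp_core {K : Type u} [CommRing K] [Algebra ℚ K] {f h : PowerSeries K}
    {g : ℕ → PowerSeries K}
    (hf : PowerSeries.constantCoeff f = 1) (hh : PowerSeries.constantCoeff h = 1)
    (hg : ∀ k, PowerSeries.constantCoeff (g k) = 1) (i j : ℕ)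
    (H1 : ∀ k < j, ∀ l < i, ps (g k) l = ps f ((k + 1) * (l + 1) - 1))
    (H2 : ∀ k < j, ps h k = PowerSeries.coeff i (g k))
    {Q : MvPolynomial (Fin (i * j)) ℤ} (hQ : IsCompPoly i j Q) :
    PowerSeries.coeff j h = MvPolynomial.aeval
      (fun k : Fin (i * j) => PowerSeries.coeff ((k : ℕ) + 1) f) Q := by
  let θ : MvPolynomial (Fin (i * j)) ℚ →ₐ[ℚ] K := MvPolynomial.aeval
      (fun k : Fin (i * j) => PowerSeries.coeff ((k : ℕ) + 1) f)
  have hF : ∀ k < i * j, θ (ps (Fc (i * j)) k) = ps f k := by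
    intro k hk
    have h1 := ps_map (θ : _ →+* K) (constantCoeff_gser (i * j)
      (fun k => (MvPolynomial.X k : MvPolynomial (Fin (i * j)) ℚ))) k
    rw [map_gser] at h1
    refine h1.symm.trans ?_
    refine ps_congr (constantCoeff_gser _ _) hf (i * j) ?_ k hk
    have h2 := coeff_gser_coeff hf (i * j)
    intro m hm
    rw [← h2 m hm]
    congr 2
    funext k
    simp [θ]
  have hG : ∀ k < j, θ (PowerSeries.coeff i (Gc (i * j) k)) = PowerSeries.coeff i (g k) := by
    intro k hk
    have h1 : PowerSeries.coeff i (PowerSeries.map (θ : _ →+* K) (Gc (i * j) k)) =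
        PowerSeries.coeff i (g k) := by
      refine coeff_congr torsionFree_of_rat (constantCoeff_map _ (constantCoeff_Gc _ _)) (hg k) i ?_
        i le_rfl
      intro l hl
      rw [H1 k hk l hl, ps_map _ (constantCoeff_Gc _ _), ps_Gc]
      apply hF
      have h2 : (k + 1) * (l + 1) ≤ j * i := Nat.mul_le_mul hk hl
      have h3 : 0 < (k + 1) * (l + 1) := by positivity
      rw [mul_comm i j]
      omega
    rw [PowerSeries.coeff_map] at h1
    exact h1
  have h1 : PowerSeries.coeff j h =
      PowerSeries.coeff j (PowerSeries.map (θ : _ →+* K) (Hc (i * j) i)) := by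
    refine coeff_congr torsionFree_of_rat hh (constantCoeff_map _ (constantCoeff_Hc _ _)) j ?_ j
      le_rfl
    intro k hk
    rw [H2 k hk, ps_map _ (constantCoeff_Hc _ _), ps_Hc]
    exact (hG k hk).symm
  rw [h1, PowerSeries.coeff_map, coeff_Hc_eq hQ]
  change θ (MvPolynomial.map (Int.castRingHom ℚ) Q) = _
  rw [MvPolynomial.aeval_map_algebraMap (A := ℚ)
    (fun k : Fin (i * j) => PowerSeries.coeff ((k : ℕ) + 1) f) Q |>.symm]
  rfl

end K536.UnivComp
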