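import Groth.Agent.LambdaRing.K536.PowerSum
import Groth.Agent.LambdaRing.K536.SymmInj

/-!
# The universal polynomials `P_n` and `Q_{i,j}`
-/

set_option autoImplicit false
universe u v

open Finset LambdaRing

namespace K536.UnivPoly

open K536.Basic K536.PowerSum K536.SymmInj

section gser

variable {R : Type u} [CommRing R]

/-- the series `1 + x_0 t + x_1 t^2 + ... + x_(n-1) t^n` -/
noncomputable def gser (n : ℕ) (x : Fin n → R) : PowerSeries R :=
  PowerSeries.mk (fun i => if i = 0 then 1 else if h : i - 1 < n then x ⟨i - 1, h⟩ else 0)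

@[simp]
lemma constantCoeff_gser (n : ℕ) (x : Fin n → R) : PowerSeries.constantCoeff (gser n x) = 1 := by
  rw [← PowerSeries.coeff_zero_eq_constantCoeff_apply, gser, PowerSeries.coeff_mk, if_pos rfl]

lemma coeff_gser_succ (n : ℕ) (x : Fin n → R) (i : ℕ) (h : i < n) :
    PowerSeries.coeff (i + 1) (gser n x) = x ⟨i, h⟩ := by
  rw [gser, PowerSeries.coeff_mk, if_neg (by omega), dif_pos (by simpa using h)]
  simp

lemma coeff_gser_of_gt (n : ℕ) (x : Fin n → R) (i : ℕ) (h : n < i) :
    PowerSeries.coeff i (gser n x) = 0 := by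
  rw [gser, PowerSeries.coeff_mk, if_neg (by omega), dif_neg (by omega)]

lemma map_gser {S : Type v} [CommRing S] (φ : R →+* S) (n : ℕ) (x : Fin n → R) :
    PowerSeries.map φ (gser n x) = gser n (fun k => φ (x k)) := by
  ext i
  rw [PowerSeries.coeff_map, gser, gser, PowerSeries.coeff_mk, PowerSeries.coeff_mk]
  split_ifs <;> simp

lemma coeff_gser_coeff {f : PowerSeries R} (hf : PowerSeries.constantCoeff f = 1) (n : ℕ) :
    ∀ i ≤ n, PowerSeries.coeff i (gser n (fun k => PowerSeries.coeff ((k : ℕ) + 1) f)) =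
      PowerSeries.coeff i f := by
  intro i hi
  rcases i with _ | i
  · rw [coeff_zero_of (constantCoeff_gser _ _), coeff_zero_of hf]
  · rw [coeff_gser_succ _ _ _ (by omega)]

/-- the `k`-th elementary symmetric function of a family -/
noncomputable def es {ι : Type*} [Fintype ι] (T : ι → R) (k : ℕ) : R :=
  ∑ s ∈ (univ : Finset ι).powersetCard k, ∏ i ∈ s, T i

lemma es_eq_aeval {N : ℕ} (T : Fin N → R) (k : ℕ) :
    es T k = MvPolynomial.aeval T (MvPolynomial.esymm (Fin N) ℤ k) := by
  rw [es, MvPolynomial.esymm, map_sum]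
  apply Finset.sum_congr rfl
  intro s _
  rw [map_prod]
  exact Finset.prod_congr rfl (fun i _ => (MvPolynomial.aeval_X _ _).symm)

lemma es_zero {ι : Type*} [Fintype ι] (T : ι → R) : es T 0 = 1 := by simp [es]

lemma coeff_prod_linear {ι : Type*} [Fintype ι] (T : ι → R) (k : ℕ) :
    PowerSeries.coeff k (∏ i, (1 + PowerSeries.C (T i) * PowerSeries.X)) = es T k :=
  coeff_prod_one_add univ T k

/-- a product of linear factors in terms of the elementary symmetric functions -/
lemma prod_linear_eq_gser {n : ℕ} (T : Fin n → R) :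
    ∏ i, (1 + PowerSeries.C (T i) * PowerSeries.X) = gser n (fun k => es T ((k : ℕ) + 1)) := by
  ext i
  rw [coeff_prod_linear]
  rcases i with _ | i
  · rw [coeff_zero_of (constantCoeff_gser _ _), es_zero]
  · by_cases h : i < n
    · rw [coeff_gser_succ _ _ _ h]
    · rw [coeff_gser_of_gt _ _ _ (by omega), es, Finset.powersetCard_eq_empty.mpr (by simp; omega),
        Finset.sum_empty]

lemma map_es {S : Type v} [CommRing S] (φ : R →+* S) {ι : Type*} [Fintype ι] (T : ι → R) (k : ℕ) :
    φ (es T k) = es (fun i => φ (T i)) k := by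
  rw [es, es, map_sum]
  exact Finset.sum_congr rfl (fun s _ => map_prod φ _ _)

end gser

section mulcore

/-- the substitution of elementary symmetric polynomials into `P_n` -/
noncomputable def gmul (n : ℕ) : Fin n ⊕ Fin n → MvPolynomial (Fin n ⊕ Fin n) ℤ :=
  Sum.elim (fun k : Fin n => MvPolynomial.rename Sum.inl (MvPolynomial.esymm (Fin n) ℤ ((k : ℕ) + 1)))
      (fun k : Fin n => MvPolynomial.rename Sum.inr (MvPolynomial.esymm (Fin n) ℤ ((k : ℕ) + 1)))

lemma map_gmul (R : Type) [CommRing R] (n : ℕ) :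
    (fun k => MvPolynomial.map (Int.castRingHom R) (gmul n k)) =
    Sum.elim (fun k : Fin n => MvPolynomial.rename Sum.inl (MvPolynomial.esymm (Fin n) R ((k : ℕ) + 1)))
      (fun k : Fin n => MvPolynomial.rename Sum.inr (MvPolynomial.esymm (Fin n) R ((k : ℕ) + 1))) := by
  funext k
  rcases k with k | k
  · simp only [gmul, Sum.elim_inl]
    rw [MvPolynomial.map_rename, MvPolynomial.map_esymm]
  · simp only [gmul, Sum.elim_inr]
    rw [MvPolynomial.map_rename, MvPolynomial.map_esymm]

lemma sub_gmul (R : Type) [CommRing R] (n : ℕ) : sub (gmul n) R = iota2 R n n n n := by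
  rw [sub, map_gmul]; rfl

/-- the universal series over `ℚ` -/
noncomputable def Fq (n : ℕ) : PowerSeries (MvPolynomial (Fin n ⊕ Fin n) ℚ) :=
  gser n (fun k => MvPolynomial.X (Sum.inl k))

/-- the universal series over `ℚ` -/
noncomputable def Gq (n : ℕ) : PowerSeries (MvPolynomial (Fin n ⊕ Fin n) ℚ) :=
  gser n (fun k => MvPolynomial.X (Sum.inr k))

/-- the universal product series over `ℚ` -/
noncomputable def Hq (n : ℕ) : PowerSeries (MvPolynomial (Fin n ⊕ Fin n) ℚ) :=
  ofPs (fun k => ps (Fq n) k * ps (Gq n) k)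

lemma constantCoeff_Hq (n : ℕ) : PowerSeries.constantCoeff (Hq n) = 1 := constantCoeff_ofPs _

lemma ps_Hq (n k : ℕ) : ps (Hq n) k = ps (Fq n) k * ps (Gq n) k := ps_ofPs _ k

lemma rename_esymm_eq_es (R : Type) [CommRing R] {N : ℕ} {τ : Type} (f : Fin N → τ) (k : ℕ) :
    MvPolynomial.rename f (MvPolynomial.esymm (Fin N) R k) =
      es (fun a : Fin N => (MvPolynomial.X (f a) : MvPolynomial τ R)) k := by
  rw [MvPolynomial.esymm, map_sum, es]
  apply Finset.sum_congr rfl
  intro s _
  rw [map_prod]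
  exact Finset.prod_congr rfl (fun i _ => MvPolynomial.rename_X _ _)

lemma iota2_Fq (n : ℕ) : PowerSeries.map (iota2 ℚ n n n n :
    MvPolynomial (Fin n ⊕ Fin n) ℚ →+* MvPolynomial (Fin n ⊕ Fin n) ℚ) (Fq n) =
    ∏ a : Fin n, (1 + PowerSeries.C (MvPolynomial.X (Sum.inl a)) * PowerSeries.X) := by
  rw [Fq, map_gser, prod_linear_eq_gser]
  congr 1
  funext k
  rw [← rename_esymm_eq_es]
  simp [iota2]

lemma iota2_Gq (n : ℕ) : PowerSeries.map (iota2 ℚ n n n n :
    MvPolynomial (Fin n ⊕ Fin n) ℚ →+* MvPolynomial (Fin n ⊕ Fin n) ℚ) (Gq n) =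
    ∏ a : Fin n, (1 + PowerSeries.C (MvPolynomial.X (Sum.inr a)) * PowerSeries.X) := by
  rw [Gq, map_gser, prod_linear_eq_gser]
  congr 1
  funext k
  rw [← rename_esymm_eq_es]
  simp [iota2]

/-- the family of products -/
noncomputable def prodFam (R : Type) [CommRing R] (n : ℕ) (ab : Fin n × Fin n) :
    MvPolynomial (Fin n ⊕ Fin n) R :=
  MvPolynomial.X (Sum.inl ab.1) * MvPolynomial.X (Sum.inr ab.2)

lemma iota2_Hq (n : ℕ) : PowerSeries.map (iota2 ℚ n n n n :
    MvPolynomial (Fin n ⊕ Fin n) ℚ →+* MvPolynomial (Fin n ⊕ Fin n) ℚ) (Hq n) =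
    ∏ ab : Fin n × Fin n, (1 + PowerSeries.C (prodFam ℚ n ab) * PowerSeries.X) := by
  apply ext_of_ps torsionFree_of_rat (constantCoeff_map _ (constantCoeff_Hq _))
    (constantCoeff_prod_linear _ _)
  intro k
  have hFc : PowerSeries.constantCoeff (Fq n) = 1 := constantCoeff_gser _ _
  have hGc : PowerSeries.constantCoeff (Gq n) = 1 := constantCoeff_gser _ _
  rw [ps_map _ (constantCoeff_Hq _), ps_Hq, map_mul, ← ps_map _ hFc, ← ps_map _ hGc,
    iota2_Fq, iota2_Gq, ps_prod_linear, ps_prod_linear, ps_prod_linear, Finset.sum_mul_sum,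
    ← Finset.univ_product_univ, Finset.sum_product]
  apply Finset.sum_congr rfl
  intro a _
  apply Finset.sum_congr rfl
  intro b _
  rw [prodFam, mul_pow]

lemma mulGen_eq (n : ℕ) : mulGen n n = es (prodFam ℤ n) n := by
  rw [mulGen, Finset.esymm_map_val, es]
  rfl

lemma map_mulGen (R : Type) [CommRing R] (n : ℕ) :
    MvPolynomial.map (Int.castRingHom R) (mulGen n n) = es (prodFam R n) n := by
  rw [mulGen_eq, map_es]
  congr 1
  funext ab
  simp [prodFam]

lemma iota2_coeff_Hq (n : ℕ) : iota2 ℚ n n n n (PowerSeries.coeff n (Hq n)) =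
    MvPolynomial.map (Int.castRingHom ℚ) (mulGen n n) := by
  rw [map_mulGen, ← coeff_prod_linear, ← iota2_Hq, PowerSeries.coeff_map]
  rfl

lemma isWeightedHomogeneous_es {τ : Type*} {R : Type*} [CommRing R] {M : Type*} [AddCommMonoid M]
    (w : τ → M) {ι : Type*} [Fintype ι] (T : ι → MvPolynomial τ R) (m : M)
    (hT : ∀ i, (T i).IsWeightedHomogeneous w m) (k : ℕ) :
    (es T k).IsWeightedHomogeneous w (k • m) := by
  apply MvPolynomial.IsWeightedHomogeneous.sum
  intro s hs
  have h1 := MvPolynomial.IsWeightedHomogeneous.prod s T (fun _ => m) (fun i _ => hT i)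
  rw [Finset.sum_const, (Finset.mem_powersetCard.mp hs).2] at h1
  exact h1

/-- existence of the universal polynomials `P_n` -/
theorem exists_isMulPoly (n : ℕ) : ∃ P : MvPolynomial (Fin n ⊕ Fin n) ℤ, IsMulPoly n P := by
  have h1 : sub (gmul n) ℚ (PowerSeries.coeff n (Hq n)) =
      MvPolynomial.map (Int.castRingHom ℚ) (mulGen n n) := by
    rw [sub_gmul, iota2_coeff_Hq]
  obtain ⟨P, -, hP⟩ := saturated (gmul n) (fun d => by
    rw [sub_gmul]; exact iota2_injective _ le_rfl le_rfl) _ _ h1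
  rw [sub_gmul] at hP
  refine ⟨P, hP, ?_⟩
  refine homog_of_injective _ (Sum.elim (fun _ => ((1, 0) : ℕ × ℕ)) (fun _ => ((0, 1) : ℕ × ℕ)))
    (iota2 ℤ n n n n) ?_ (iota2_injective _ le_rfl le_rfl) _ _ ?_
  · rintro (k | k)
    · rw [iota2, MvPolynomial.aeval_X, Sum.elim_inl, Sum.elim_inl, rename_esymm_eq_es]
      have h2 := isWeightedHomogeneous_es (R := ℤ)
        (Sum.elim (fun _ : Fin n => ((1, 0) : ℕ × ℕ)) (fun _ : Fin n => ((0, 1) : ℕ × ℕ)))
        (fun a : Fin n => (MvPolynomial.X (Sum.inl a) : MvPolynomial (Fin n ⊕ Fin n) ℤ)) (1, 0)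
        (fun a => MvPolynomial.isWeightedHomogeneous_X _ _ _) ((k : ℕ) + 1)
      simpa using h2
    · rw [iota2, MvPolynomial.aeval_X, Sum.elim_inr, Sum.elim_inr, rename_esymm_eq_es]
      have h2 := isWeightedHomogeneous_es (R := ℤ)
        (Sum.elim (fun _ : Fin n => ((1, 0) : ℕ × ℕ)) (fun _ : Fin n => ((0, 1) : ℕ × ℕ)))
        (fun a : Fin n => (MvPolynomial.X (Sum.inr a) : MvPolynomial (Fin n ⊕ Fin n) ℤ)) (0, 1)
        (fun a => MvPolynomial.isWeightedHomogeneous_X _ _ _) ((k : ℕ) + 1)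
      simpa using h2
  · rw [hP, mulGen_eq]
    have h2 := isWeightedHomogeneous_es (R := ℤ)
        (Sum.elim (fun _ : Fin n => ((1, 0) : ℕ × ℕ)) (fun _ : Fin n => ((0, 1) : ℕ × ℕ)))
        (prodFam ℤ n) (1, 1) (fun ab => by
          have h3 := (MvPolynomial.isWeightedHomogeneous_X ℤ
            (Sum.elim (fun _ : Fin n => ((1, 0) : ℕ × ℕ)) (fun _ : Fin n => ((0, 1) : ℕ × ℕ)))
            (Sum.inl ab.1)).mul (MvPolynomial.isWeightedHomogeneous_X ℤ
            (Sum.elim (fun _ : Fin n => ((1, 0) : ℕ × ℕ)) (fun _ : Fin n => ((0, 1) : ℕ × ℕ)))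
            (Sum.inr ab.2))
          simpa [prodFam] using h3) n
    simpa using h2

/-- the rational version of a universal polynomial is the coefficient of the universal series -/
lemma coeff_Hq_eq {n : ℕ} {P : MvPolynomial (Fin n ⊕ Fin n) ℤ} (hP : IsMulPoly n P) :
    PowerSeries.coeff n (Hq n) = MvPolynomial.map (Int.castRingHom ℚ) P := by
  apply iota2_injective ℚ (le_refl n) (le_refl n)
  rw [iota2_coeff_Hq, ← sub_gmul, sub_map, sub_gmul]
  congr 1
  exact hP.1.symm

/-- uniqueness of the universal polynomial -/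
lemma isMulPoly_unique {n : ℕ} {P P' : MvPolynomial (Fin n ⊕ Fin n) ℤ} (hP : IsMulPoly n P)
    (hP' : IsMulPoly n P') : P = P' :=
  iota2_injective ℤ (le_refl n) (le_refl n) (hP.1.trans hP'.1.symm)

/-- the universal polynomial computes the coefficients of a series whose power sums are the
products of the power sums of two series -/
theorem mul_core {K : Type u} [CommRing K] [Algebra ℚ K] {f g h : PowerSeries K}
    (hf : PowerSeries.constantCoeff f = 1) (hg : PowerSeries.constantCoeff g = 1)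
    (hh : PowerSeries.constantCoeff h = 1) (n : ℕ)
    (H : ∀ k < n, ps h k = ps f k * ps g k)
    {P : MvPolynomial (Fin n ⊕ Fin n) ℤ} (hP : IsMulPoly n P) :
    PowerSeries.coeff n h = MvPolynomial.aeval
      (Sum.elim (fun k : Fin n => PowerSeries.coeff ((k : ℕ) + 1) f)
        (fun k : Fin n => PowerSeries.coeff ((k : ℕ) + 1) g)) P := by
  let θ : MvPolynomial (Fin n ⊕ Fin n) ℚ →ₐ[ℚ] K := MvPolynomial.aeval
      (Sum.elim (fun k : Fin n => PowerSeries.coeff ((k : ℕ) + 1) f)
        (fun k : Fin n => PowerSeries.coeff ((k : ℕ) + 1) g))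
  have hF : ∀ k < n, θ (ps (Fq n) k) = ps f k := by
    intro k hk
    have h1 := ps_map (θ : _ →+* K) (constantCoeff_gser n
      (fun k => (MvPolynomial.X (Sum.inl k) : MvPolynomial (Fin n ⊕ Fin n) ℚ))) k
    rw [map_gser] at h1
    refine h1.symm.trans ?_
    refine ps_congr (constantCoeff_gser _ _) hf n ?_ k hk
    have h2 := coeff_gser_coeff hf n
    intro i hi
    rw [← h2 i hi]
    congr 2
    funext k
    simp [θ]
  have hG : ∀ k < n, θ (ps (Gq n) k) = ps g k := by
    intro k hk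
    have h1 := ps_map (θ : _ →+* K) (constantCoeff_gser n
      (fun k => (MvPolynomial.X (Sum.inr k) : MvPolynomial (Fin n ⊕ Fin n) ℚ))) k
    rw [map_gser] at h1
    refine h1.symm.trans ?_
    refine ps_congr (constantCoeff_gser _ _) hg n ?_ k hk
    have h2 := coeff_gser_coeff hg n
    intro i hi
    rw [← h2 i hi]
    congr 2
    funext k
    simp [θ]
  have h1 : PowerSeries.coeff n h = PowerSeries.coeff n (PowerSeries.map (θ : _ →+* K) (Hq n)) := by
    refine coeff_congr torsionFree_of_rat hh (constantCoeff_map _ (constantCoeff_Hq _)) n ?_ n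
      le_rfl
    intro k hk
    rw [H k hk, ps_map _ (constantCoeff_Hq _), ps_Hq, map_mul]
    rw [← hF k hk, ← hG k hk]
    rfl
  rw [h1, PowerSeries.coeff_map, coeff_Hq_eq hP]
  change θ (MvPolynomial.map (Int.castRingHom ℚ) P) = _
  rw [MvPolynomial.aeval_map_algebraMap (A := ℚ)
    (Sum.elim (fun k : Fin n => PowerSeries.coeff ((k : ℕ) + 1) f)
        (fun k : Fin n => PowerSeries.coeff ((k : ℕ) + 1) g)) P |>.symm]
  rfl

end mulcore

end K536.UnivPoly
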